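import Groth.Agent.Fano.K791.HonBase
import Groth.Agent.Fano.K479.HonSlice

/-!
# The base of the chart of maps from the projective line, for a good form

`irreducibleSpace_base'`, `topologicalKrullDim_base_le'`, `ringKrullDim_RV`.
-/

set_option autoImplicit false

universe u

open CategoryTheory CategoryTheory.Limits AlgebraicGeometry

namespace K791.HonBase

open K188.LineDef K505.KonDef K239.HonDef

variable {k : Type u} [Field k] [IsAlgClosed k] {r n d e δ : ℕ} {G : LefPen.Form n k d}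
variable {hi : IsPre (B0 k r)} {hp : ProdB0 k r} (o : Oe G (QO k r).hom e) (ho : OeStab o)

theorem ringKrullDim_HR_QR (hG : Good G.1 d δ) (hd : 1 ≤ d) (h2d : 2 * d ≤ n + 1) (e r : ℕ) :
    ringKrullDim (K314.HonHR.HR G.1 d e (QR k r)) = ((n + e * δ + r : ℕ) : WithBot ℕ∞) := by
  have h1 : ringKrullDim (K314.HonHR.HR G.1 d e k) = ((n + e * δ : ℕ) : WithBot ℕ∞) :=
    K791.HonRing.ringKrullDim_HR hG hd h2d e
  rw [K479.HonSlice.ringKrullDim_HR, ringKrullDim_QR, h1]
  push_cast
  ring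

/-- The dimension of the ring of the chart. -/
theorem ringKrullDim_RV (hG : Good G.1 d δ) (hd : 1 ≤ d) (h2d : 2 * d ≤ n + 1) :
    ringKrullDim (l0 (hi := hi) (hp := hp) o ho).RV = ((n + e * δ + r : ℕ) : WithBot ℕ∞) := by
  rw [ringKrullDim_eq_of_ringEquiv (rvEquiv (hi := hi) (hp := hp) o ho)]
  exact ringKrullDim_HR_QR hG hd h2d e r

theorem irreducibleSpace_HR_QR (hG : Good G.1 d δ) (hd : 1 ≤ d) (h2d : 2 * d ≤ n + 1) (e r : ℕ) :
    IrreducibleSpace (PrimeSpectrum (K314.HonHR.HR G.1 d e (QR k r))) :=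
  K314.HonHR.irreducibleSpace_HR _ _ _ _ (K791.HonRing.irreducibleSpace_HR hG hd h2d e)

/-- The base of a universal family is irreducible. -/
theorem irreducibleSpace_base' (hG : Good G.1 d δ) (hd : 1 ≤ d) (h2d : 2 * d ≤ n + 1)
    (Un : Univ (l0 (hi := hi) (hp := hp) o ho)) [Nonempty Un.A.obj.base.left] : IrreducibleSpace Un.A.obj.base.left :=
  irreducibleSpace_base o ho Un (irreducibleSpace_HR_QR hG hd h2d e r)

theorem topologicalKrullDim_base_le' (hG : Good G.1 d δ) (hd : 1 ≤ d) (h2d : 2 * d ≤ n + 1)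
    (Un : Univ (l0 (hi := hi) (hp := hp) o ho)) :
    topologicalKrullDim Un.A.obj.base.left ≤ ((n + e * δ + r : ℕ) : WithBot ℕ∞) :=
  (topologicalKrullDim_base_le o ho Un).trans (ringKrullDim_HR_QR hG hd h2d e r).le

end K791.HonBase
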