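import Groth.Agent.Fano.K791.Dense
import Groth.Agent.Fano.K519.DensePre
import Groth.Agent.Fano.K655.CrvDens

/-!
# Density of the honest maps in a chart of the stack of stable maps: the instance for the charts of `K655.CrvDens`
-/

set_option autoImplicit false
set_option backward.isDefEq.respectTransparency false
set_option backward.isDefEq.respectTransparency.types false

universe u

open CategoryTheory CategoryTheory.Limits AlgebraicGeometry

namespace K791.Dense

open K505.KonDef K393.ObjChart

variable {k : Type u} [Field k] {r m m' n d e δ : ℕ} {G : LefPen.Form n k d}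
variable {c : CrvChart k (r + m)} {ℓ : LinChart c G e} {c' : CrvChart k (r + m')} {ℓ' : LinChart c' G e}

/-- **Density**: `hdense` of `K393.ObjDim.irreducibleSpace_and_dim`. -/
theorem dense (h𝒳 : FibCat.IsFibGrpd (Mst G r e).p) (Un : Univ ℓ) (U0 : Univ ℓ') (hc : Dense (K655.CrvDens.smPts c))
    (hG : G.1 ≠ 0) (hb : K519.LinTree.ArcBound G.1 δ) (hδ : δ + d = n + 1)
    (hS : ∀ {Ω : Type u} [Field Ω] [IsAlgClosed Ω] (q : Spec (CommRingCat.of Ω) ⟶ Spec (CommRingCat.of k))
      (Y : (Mst G r e).obj), Y.obj.base = Over.mk q → Smooth Y.obj.f → Nonempty (Datum ℓ' Y.obj)) :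
    Dense {v : ((Mst G r e).p.obj Un.A).left | ∃ b : ((Mst G r e).p.obj U0.A).left, cls h𝒳 U0.A b = cls h𝒳 Un.A v} :=
  dense_of h𝒳 Un U0 (K655.CrvDens.smPts c) (K519.FlatUniv.dense_preimage Un hG hb hδ hc)
    (fun _ _ _ _ _ _ _ _ sq h => (K655.CrvDens.smooth_iff c sq).2 h) hS

end K791.Dense
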