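import Groth.Agent.Fano.K791.Deg
import Groth.Agent.Fano.K254.H2Gen

/-!
# The space of rational curves of degree `e` on the cone of a general hypersurface

`isGeneric_mor`: for `k` algebraically closed, `1 ≤ d`, `d + 3 ≤ n`, `2 d ≤ n + 1` and a general form `G` of degree `d`: for all
`e` the closed subscheme of the `c = (c_0, …, c_e)` in affine space of dimension `(e + 1) (n + 1)` defined by `G(∑ c_j t^j) = 0` is
irreducible of dimension `n + e (n + 1 - d)`.
-/

set_option autoImplicit false

universe u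

namespace K791

open MvPolynomial K714.DimMv Line Groth.Agent.CalgC.DimFT

section Compare

variable {k : Type*} [Field k] {n : ℕ}

theorem bin_eq_alongLine {A : Type*} [CommRing A] (φ : k →+* A) (G : MvPolynomial (Fin (n + 1)) k)
    (a b : Fin (n + 1) → A) : bin φ G a b = K948.FanoConeDim.alongLine φ G a b := by
  rw [bin, gev, K948.FanoConeDim.alongLine]
  congr 1
  funext i
  rw [mul_comm]

theorem lineI_eq_lineIdeal {K : Type*} [Field K] (φ : k →+* K) (G : MvPolynomial (Fin (n + 1)) k)
    (a : Fin (n + 1) → K) : lineI φ G a = K948.FanoConeDim.lineIdeal φ G a := by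
  have h : (fun m : ℕ => (bin (C.comp φ) G (fun i => C (a i)) (X : Fin (n + 1) → MvPolynomial (Fin (n + 1)) K)).coeff m) =
      fun m : ℕ => (K948.FanoConeDim.alongLine (C.comp φ) G (fun i => C (a i))
        (X : Fin (n + 1) → MvPolynomial (Fin (n + 1)) K)).coeff m := by
    funext m
    rw [bin_eq_alongLine]
  exact congrArg (fun f => Ideal.span (Set.range f)) h

end Compare

section Prime

variable {k : Type*} [Field k] {n d : ℕ}

theorem bin_mul {A : Type*} [CommRing A] (φ : k →+* A) (G H : MvPolynomial (Fin (n + 1)) k) (a b : Fin (n + 1) → A) :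
    bin φ (G * H) a b = bin φ G a b * bin φ H a b := by
  rw [bin, gev, eval₂_mul]
  rfl

theorem natDegree_bin_le {A : Type*} [CommRing A] (φ : k →+* A) (G : MvPolynomial (Fin (n + 1)) k) (a b : Fin (n + 1) → A) :
    (bin φ G a b).natDegree ≤ G.totalDegree := by
  rw [bin, gev_eq]
  refine Polynomial.natDegree_sum_le_of_forall_le _ _ fun α hα => ?_
  refine (Polynomial.natDegree_C_mul_le _ _).trans ((Polynomial.natDegree_prod_le _ _).trans ?_)
  have h1 : ∑ i, α i ≤ G.totalDegree := by
    have h2 := le_totalDegree hα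
    rwa [Finsupp.sum_fintype _ _ (fun _ => rfl)] at h2
  refine le_trans (Finset.sum_le_sum fun i _ => ?_) h1
  refine (Polynomial.natDegree_pow_le).trans ?_
  calc α i * (Polynomial.C (a i) + Polynomial.C (b i) * Polynomial.X).natDegree ≤ α i * 1 :=
        Nat.mul_le_mul_left _ (natDegree_lin _ _)
    _ = α i := mul_one _

/-- The lines through a point of `A = 0` on `A = 0`: dimension at least `n + 1 - deg A`. -/
theorem le_dim_lineI (A : MvPolynomial (Fin (n + 1)) k) (v : Fin (n + 1) → k) (hv : eval v A = 0) :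
    ((n + 1 : ℕ) : WithBot ℕ∞) ≤ ringKrullDim (MvPolynomial (Fin (n + 1)) k ⧸ lineI (RingHom.id k) A v) +
      (A.totalDegree : WithBot ℕ∞) := by
  classical
  set J := lineI (RingHom.id k) A v with hJ
  have h0 : (bin (C.comp (RingHom.id k)) A (fun i => C (v i)) (X : Fin (n + 1) → MvPolynomial (Fin (n + 1)) k)).coeff 0 = 0 := by
    rw [coeff_bin_zero, RingHomCompTriple.comp_eq]
    have h1 : eval₂ C (fun i => (C (v i) : MvPolynomial (Fin (n + 1)) k)) A = C (eval v A) := by
      rw [← eval₂_id, MvPolynomial.hom_eval₂, RingHomCompTriple.comp_eq]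
    rw [h1, hv, map_zero]
  have hspan : J = Ideal.span (((Finset.range A.totalDegree).image fun m =>
      (bin (C.comp (RingHom.id k)) A (fun i => C (v i)) (X : Fin (n + 1) → MvPolynomial (Fin (n + 1)) k)).coeff (m + 1) :
      Finset (MvPolynomial (Fin (n + 1)) k)) : Set (MvPolynomial (Fin (n + 1)) k)) := by
    rw [hJ, lineI]
    refine le_antisymm ?_ (Ideal.span_mono ?_)
    · rw [Ideal.span_le]
      rintro _ ⟨m, rfl⟩
      rcases m with _ | m
      · rw [SetLike.mem_coe]
        change (bin (C.comp (RingHom.id k)) A (fun i => C (v i)) X).coeff 0 ∈ _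
        rw [h0]
        exact Ideal.zero_mem _
      · by_cases hm : m < A.totalDegree
        · apply Ideal.subset_span
          rw [Finset.coe_image]
          exact ⟨m, by simpa using hm, rfl⟩
        · rw [SetLike.mem_coe]
          change (bin (C.comp (RingHom.id k)) A (fun i => C (v i)) X).coeff (m + 1) ∈ _
          rw [Polynomial.coeff_eq_zero_of_natDegree_lt (lt_of_le_of_lt (natDegree_bin_le _ A _ _) (by omega))]
          exact Ideal.zero_mem _
    · rw [Finset.coe_image]
      rintro _ ⟨m, -, rfl⟩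
      exact ⟨m + 1, rfl⟩
  have hle : J ≤ RingHom.ker (eval (0 : Fin (n + 1) → k)) := by
    rw [hJ, lineI, Ideal.span_le]
    rintro _ ⟨m, rfl⟩
    rw [SetLike.mem_coe, RingHom.mem_ker]
    refine (bin_coeff_map (eval (0 : Fin (n + 1) → k)) _ A _ _ m).trans ?_
    have h2 : (fun i => eval (0 : Fin (n + 1) → k) (X i)) = fun _ => 0 := by
      funext i
      simp
    have h3 : bin ((eval (0 : Fin (n + 1) → k)).comp (C.comp (RingHom.id k))) A
        (fun i => eval (0 : Fin (n + 1) → k) (C (v i))) (fun i => eval (0 : Fin (n + 1) → k) (X i)) =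
        Polynomial.C (eval v A) := by
      rw [h2, bin, gev]
      have h4 : ((eval (0 : Fin (n + 1) → k)).comp (C.comp (RingHom.id k))) = RingHom.id k := by
        ext x
        simp
      rw [h4, RingHomCompTriple.comp_eq, ← eval₂_id, MvPolynomial.hom_eval₂, RingHomCompTriple.comp_eq]
      congr 1
      funext i
      simp
    rw [h3, hv, map_zero, Polynomial.coeff_zero]
  have hkp : (RingHom.ker (eval (0 : Fin (n + 1) → k))).IsPrime := RingHom.ker_isPrime _
  obtain ⟨Q, hQ, -⟩ := Ideal.exists_minimalPrimes_le hle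
  have hQp : Q.IsPrime := hQ.1.1
  have hGen : Gen J (n + 1 - A.totalDegree) ∨ n + 1 ≤ A.totalDegree := by
    by_cases h : n + 1 ≤ A.totalDegree
    · exact Or.inr h
    · refine Or.inl ⟨_, hspan.symm, ?_⟩
      rw [Nat.card_eq_fintype_card, Fintype.card_fin]
      have h1 := Finset.card_image_le (s := Finset.range A.totalDegree) (f := fun m =>
        (bin (C.comp (RingHom.id k)) A (fun i => C (v i)) (X : Fin (n + 1) → MvPolynomial (Fin (n + 1)) k)).coeff (m + 1))
      rw [Finset.card_range] at h1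
      omega
  obtain ⟨f, -, hf, -⟩ := exists_nat_dim Q
  have h5 : (f : WithBot ℕ∞) ≤ ringKrullDim (MvPolynomial (Fin (n + 1)) k ⧸ J) := by
    rw [← hf]
    exact ringKrullDim_le_of_surjective (Ideal.Quotient.factor hQ.1.2) (Ideal.Quotient.factor_surjective _)
  have h6 : n + 1 ≤ f + A.totalDegree := by
    rcases hGen with h | h
    · have h7 := h.le_dim hQ
      rw [hf] at h7
      have h8 : n + 1 - A.totalDegree ≤ f := by exact_mod_cast h7
      omega
    · omega
  calc ((n + 1 : ℕ) : WithBot ℕ∞) ≤ (f : WithBot ℕ∞) + (A.totalDegree : WithBot ℕ∞) := by exact_mod_cast h6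
    _ ≤ _ := by gcongr

/-- A non unit has a zero different from the origin, if `1 ≤ n`. -/
theorem exists_zero [IsAlgClosed k] (hn : 1 ≤ n) (A : MvPolynomial (Fin (n + 1)) k) (hA : ¬ IsUnit A) :
    ∃ v : Fin (n + 1) → k, v ≠ 0 ∧ eval v A = 0 := by
  have h1 : Ideal.span {A} ≠ ⊤ := by rwa [Ne, Ideal.span_singleton_eq_top]
  obtain ⟨M, hM, hle⟩ := Ideal.exists_le_maximal _ h1
  have hMp := hM.isPrime
  obtain ⟨Q, hQ, -⟩ := Ideal.exists_minimalPrimes_le hle
  have hQp : Q.IsPrime := hQ.1.1
  have hGen : Gen (Ideal.span {A}) n := ⟨{A}, by simp, by simp [add_comm]⟩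
  have h2 := hGen.le_dim hQ
  obtain ⟨i, hi⟩ : ∃ i, X i ∉ Q := by
    by_contra hcon
    push Not at hcon
    have h3 := dim_le_comap (k := k) (fun i : Fin 0 => (i.elim0 : Fin (n + 1))) Q fun j _ => hcon j
    have h4 := h2.trans (h3.trans (ringKrullDim_quotient_le _))
    rw [ringKrullDim_mvPolynomial_fin] at h4
    have h5 : n ≤ 0 := by exact_mod_cast h4
    omega
  obtain ⟨v, hv, hvi⟩ := exists_point Q hi
  refine ⟨v, ?_, hv _ (hQ.1.2 (Ideal.mem_span_singleton_self A))⟩
  rintro rfl
  apply hvi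
  simp

theorem prime_of_H1 [IsAlgClosed k] (hn : 1 ≤ n) (hd : 1 ≤ d) {G : MvPolynomial (Fin (n + 1)) k} {δ : ℕ}
    (hG : G.IsHomogeneous d) (hδ : δ + d = n + 1)
    (H1 : ∀ v : Fin (n + 1) → k, v ≠ 0 → eval v G = 0 →
      ringKrullDim (MvPolynomial (Fin (n + 1)) k ⧸ lineI (RingHom.id k) G v) ≤ δ) :
    (Ideal.span {G}).IsPrime ∧ G ≠ 0 := by
  have key : ∀ A B : MvPolynomial (Fin (n + 1)) k, G = A * B → ¬ IsUnit A → d ≤ A.totalDegree := by
    intro A B hAB hA
    obtain ⟨v, hv, hvA⟩ := exists_zero hn A hA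
    have h1 := le_dim_lineI A v hvA
    have h2 : lineI (RingHom.id k) G v ≤ lineI (RingHom.id k) A v := by
      rw [lineI, Ideal.span_le]
      rintro _ ⟨m, rfl⟩
      rw [SetLike.mem_coe]
      change (bin (C.comp (RingHom.id k)) G (fun i => C (v i)) X).coeff m ∈ _
      rw [hAB, bin_mul, Polynomial.coeff_mul]
      refine Ideal.sum_mem _ fun p _ => ?_
      exact Ideal.mul_mem_right _ _ (Ideal.subset_span ⟨p.1, rfl⟩)
    have h3 := ringKrullDim_le_of_surjective (Ideal.Quotient.factor h2) (Ideal.Quotient.factor_surjective _)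
    have h4 := H1 v hv (by rw [hAB, map_mul, hvA, zero_mul])
    have h5 : ((n + 1 : ℕ) : WithBot ℕ∞) ≤ (δ : WithBot ℕ∞) + (A.totalDegree : WithBot ℕ∞) := by
      refine h1.trans ?_
      gcongr
      exact h3.trans h4
    have h6 : n + 1 ≤ δ + A.totalDegree := by exact_mod_cast h5
    omega
  have hG0 : G ≠ 0 := by
    intro h0
    have h1 := key 0 0 (by rw [h0, mul_zero]) not_isUnit_zero
    rw [totalDegree_zero] at h1
    omega
  have hirr : Irreducible G := by
    constructor
    · intro hu
      obtain ⟨c, hc, hcG⟩ := (MvPolynomial.isUnit_iff_eq_C_of_isReduced).1 hu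
      have h1 : G.IsHomogeneous 0 := by
        rw [hcG]
        exact isHomogeneous_C _ _
      have := hG.inj_right h1 hG0
      omega
    · intro A B hAB
      by_contra hcon
      push Not at hcon
      have h1 := key A B hAB hcon.1
      have h2 := key B A (by rw [hAB, mul_comm]) hcon.2
      have hA0 : A ≠ 0 := by
        rintro rfl
        exact hG0 (by rw [hAB, zero_mul])
      have hB0 : B ≠ 0 := by
        rintro rfl
        exact hG0 (by rw [hAB, mul_zero])
      have h3 := totalDegree_mul_of_isDomain hA0 hB0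
      rw [← hAB, hG.totalDegree hG0] at h3
      omega
  exact ⟨(Ideal.span_singleton_prime hG0).2 hirr.prime, hG0⟩

end Prime

section Generic

variable {k : Type u} [Field k] [IsAlgClosed k] {n d : ℕ}

open Groth.Agent.Lefpen.H702.PolyFun

/-- A general form is good. -/
theorem isGeneric_good (hd : 1 ≤ d) (hdn : d + 3 ≤ n) :
    LefPen.IsGeneric k {G : LefPen.Form n k d | Good G.1 d (n + 1 - d)} := by
  have h1 := K948.FanoConeDim.isGeneric (k := k) hd hdn
  have h2 := Groth.Agent.Fano.K254.H2.isGeneric_isDomain (k := k) (n := n) hd (by omega)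
  refine IsGeneric.mono (IsGeneric.inter h1 h2) ?_
  rintro G ⟨hG1, hG2⟩
  have hom : G.1.IsHomogeneous d := (mem_homogeneousSubmodule _ _).1 G.2
  have H1 : ∀ v : Fin (n + 1) → k, v ≠ 0 → eval v G.1 = 0 →
      ringKrullDim (MvPolynomial (Fin (n + 1)) k ⧸ lineI (RingHom.id k) G.1 v) ≤ ((n + 1 - d : ℕ) : WithBot ℕ∞) := by
    intro v hv h0
    rw [lineI_eq_lineIdeal]
    exact hG1 v hv h0
  have hδ : n + 1 - d + d = n + 1 := by omega
  obtain ⟨hp, hne⟩ := prime_of_H1 (by omega) hd hom hδ H1
  refine ⟨hom, hp, hne, hδ, H1, ?_⟩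
  intro Ω _ φ a h
  rw [lineI_eq_lineIdeal]
  exact hG2 Ω φ a h

/-- The rational curves of degree `e` on the cone of a general form are parametrized by an irreducible scheme of the expected
dimension. -/
theorem isGeneric_mor (hd : 1 ≤ d) (hdn : d + 3 ≤ n) (h2d : 2 * d ≤ n + 1) :
    LefPen.IsGeneric k {G : LefPen.Form n k d | ∀ e : ℕ, (morI G.1 e).radical.IsPrime ∧
      ringKrullDim (MvPolynomial (Fin (e + 1) × Fin (n + 1)) k ⧸ (morI G.1 e).radical) =
        ((n + e * (n + 1 - d) : ℕ) : WithBot ℕ∞)} :=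
  IsGeneric.mono (isGeneric_good hd hdn) fun _ hG e => main hG hd h2d e

end Generic

end K791
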