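import Groth.Agent.Fano.K791.Step

/-!
# Chains of lines

`chainI G e`: the ideal of the sequences of points `c_0, …, c_e` of the cone `G = 0` such that the line through `c_j` and
`c_{j+1}` lies on the cone.  It is irreducible, generically reduced, of dimension `n + e δ`.
-/

set_option autoImplicit false

namespace K791

open MvPolynomial K714.DimMv Line Groth.Agent.CalgC.DimFT

universe u

variable {k : Type u} [Field k] {n d : ℕ}

theorem eval₂_C_X {ρ ρ' : Type*} (f : ρ → ρ') (p : MvPolynomial ρ k) :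
    eval₂ C (fun i => X (f i)) p = rename f p := by
  rw [rename_eq_aeval, aeval_def]
  rfl

theorem rename_bin {ρ ρ' : Type*} (f : ρ → ρ') (G : MvPolynomial (Fin (n + 1)) k)
    (a b : Fin (n + 1) → MvPolynomial ρ k) (m : ℕ) :
    rename f ((bin C G a b).coeff m) = (bin C G (fun i => rename f (a i)) (fun i => rename f (b i))).coeff m := by
  refine (bin_coeff_map (rename (R := k) f).toRingHom C G a b m).trans ?_
  congr 2
  ext x
  simp

theorem comap_rename_symm {σ τ : Type*} (I : Ideal (MvPolynomial σ k)) (e : σ ≃ τ) :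
    I.comap (renameEquiv k e.symm) = I.map (rename (R := k) e) := by
  rw [← renameEquiv_symm]
  exact (Ideal.map_comap_of_equiv (I := I) (renameEquiv k e).toRingEquiv).symm

/-- The point `c_j` lies on the cone. -/
noncomputable def ptEq (G : MvPolynomial (Fin (n + 1)) k) (e : ℕ) (j : Fin (e + 1)) :
    MvPolynomial (Fin (e + 1) × Fin (n + 1)) k := eval₂ C (fun i => X (j, i)) G

/-- The line through `c_j` and `c_{j+1}` lies on the cone. -/
noncomputable def chainEq (G : MvPolynomial (Fin (n + 1)) k) (e : ℕ) (p : Fin e × ℕ) :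
    MvPolynomial (Fin (e + 1) × Fin (n + 1)) k :=
  (bin C G (fun i => X (p.1.castSucc, i)) (fun i => X (p.1.succ, i))).coeff p.2

/-- The ideal of the chains of `e` lines on the cone. -/
noncomputable def chainI (G : MvPolynomial (Fin (n + 1)) k) (e : ℕ) : Ideal (MvPolynomial (Fin (e + 1) × Fin (n + 1)) k) :=
  Ideal.span (Set.range (ptEq G e) ∪ Set.range (chainEq G e))

/-- Adding a point to a chain. -/
def chE (e n : ℕ) : (Fin (e + 1) × Fin (n + 1)) ⊕ Fin (n + 1) ≃ Fin (e + 2) × Fin (n + 1) :=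
  (Equiv.sumComm _ _).trans ((optionProdEquiv (α := Fin (e + 1)) (β := Fin (n + 1))).symm.trans
    (Equiv.prodCongr finSuccEquivLast.symm (Equiv.refl _)))

@[simp] theorem chE_inl (e : ℕ) (j : Fin (e + 1)) (i : Fin (n + 1)) : chE e n (Sum.inl (j, i)) = (j.castSucc, i) := by
  simp [chE]

@[simp] theorem chE_inr (e : ℕ) (i : Fin (n + 1)) : chE e n (Sum.inr i) = (Fin.last (e + 1), i) := by
  simp [chE]

theorem rename_ptEq (G : MvPolynomial (Fin (n + 1)) k) (e e' : ℕ) (f : Fin (e + 1) → Fin (e' + 1)) (j : Fin (e + 1)) :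
    rename (fun p : Fin (e + 1) × Fin (n + 1) => (f p.1, p.2)) (ptEq G e j) = ptEq G e' (f j) := by
  rw [ptEq, ptEq, eval₂_C_X, eval₂_C_X, rename_rename]
  rfl

theorem rename_chainEq (G : MvPolynomial (Fin (n + 1)) k) (e : ℕ) (j : Fin e) (m : ℕ) :
    rename (fun p : Fin (e + 1) × Fin (n + 1) => (p.1.castSucc, p.2)) (chainEq G e (j, m)) =
      chainEq G (e + 1) (j.castSucc, m) := by
  rw [chainEq, rename_bin, chainEq]
  simp only [rename_X, Fin.succ_castSucc]

theorem rename_newEq (G : MvPolynomial (Fin (n + 1)) k) (e : ℕ) (m : ℕ) :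
    rename (chE e n) (newEq G (fun i => X (Fin.last e, i)) m) = chainEq G (e + 1) (Fin.last e, m) := by
  rw [newEq, rename_bin, chainEq]
  simp only [rename_X, chE_inl, chE_inr, Fin.succ_last]

theorem chainI_succ {G : MvPolynomial (Fin (n + 1)) k} (hG : G.IsHomogeneous d) (e : ℕ) :
    chainI G (e + 1) = (stepI (chainI G e) G (fun i => X (Fin.last e, i))).comap (renameEquiv k (chE e n).symm) := by
  have hinl : ∀ p : MvPolynomial (Fin (e + 1) × Fin (n + 1)) k, rename (chE e n) (rename Sum.inl p) =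
      rename (fun p : Fin (e + 1) × Fin (n + 1) => (p.1.castSucc, p.2)) p := by
    intro p
    rw [rename_rename]
    congr 1
    congr 1
    funext q
    exact chE_inl e q.1 q.2
  rw [comap_rename_symm, stepI, Ideal.map_sup, chainI, chainI, Ideal.map_span, Ideal.map_span, Ideal.map_span]
  refine le_antisymm ?_ (sup_le ?_ ?_)
  · rw [Ideal.span_le]
    rintro _ (⟨j, rfl⟩ | ⟨⟨j, m⟩, rfl⟩)
    · refine Fin.lastCases ?_ (fun j => ?_) j
      · apply Ideal.mem_sup_right
        apply Ideal.subset_span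
        refine ⟨newEq G (fun i => X (Fin.last e, i)) d, ⟨d, rfl⟩, ?_⟩
        rw [rename_newEq, chainEq, coeff_bin_top _ hG, ptEq]
        simp only [Fin.succ_last]
      · apply Ideal.mem_sup_left
        apply Ideal.subset_span
        exact ⟨_, ⟨ptEq G e j, Or.inl ⟨j, rfl⟩, rfl⟩, (hinl _).trans (rename_ptEq G e (e + 1) Fin.castSucc j)⟩
    · refine Fin.lastCases ?_ (fun j => ?_) j
      · apply Ideal.mem_sup_right
        apply Ideal.subset_span
        exact ⟨_, ⟨m, rfl⟩, rename_newEq G e m⟩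
      · apply Ideal.mem_sup_left
        apply Ideal.subset_span
        exact ⟨_, ⟨chainEq G e (j, m), Or.inr ⟨(j, m), rfl⟩, rfl⟩, (hinl _).trans (rename_chainEq G e j m)⟩
  · rw [Ideal.span_le]
    rintro _ ⟨_, ⟨_, ⟨j, rfl⟩ | ⟨⟨j, m⟩, rfl⟩, rfl⟩, rfl⟩
    · apply Ideal.subset_span
      refine Or.inl ⟨j.castSucc, ?_⟩
      exact ((hinl _).trans (rename_ptEq G e (e + 1) Fin.castSucc j)).symm
    · apply Ideal.subset_span
      refine Or.inr ⟨(j.castSucc, m), ?_⟩
      exact ((hinl _).trans (rename_chainEq G e j m)).symm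
  · rw [Ideal.span_le]
    rintro _ ⟨_, ⟨m, rfl⟩, rfl⟩
    apply Ideal.subset_span
    exact Or.inr ⟨(Fin.last e, m), (rename_newEq G e m).symm⟩

/-! ### Reversal of a chain -/

theorem rev_chainI {G : MvPolynomial (Fin (n + 1)) k} (hG : G.IsHomogeneous d) (e : ℕ) :
    chainI G e ≤ (chainI G e).comap (rename (R := k) fun p : Fin (e + 1) × Fin (n + 1) => (p.1.rev, p.2)) := by
  rw [chainI, Ideal.span_le]
  rintro _ (⟨j, rfl⟩ | ⟨⟨j, m⟩, rfl⟩)
  · rw [SetLike.mem_coe, Ideal.mem_comap, rename_ptEq G e e Fin.rev j]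
    exact Ideal.subset_span (Or.inl ⟨_, rfl⟩)
  · rw [SetLike.mem_coe, Ideal.mem_comap, chainEq, rename_bin]
    simp only [rename_X, Fin.rev_castSucc, Fin.rev_succ]
    by_cases hm : m ≤ d
    · rw [coeff_bin_swap _ hG _ _ hm]
      exact Ideal.subset_span (Or.inr ⟨(j.rev, d - m), rfl⟩)
    · rw [coeff_bin_of_lt _ hG _ _ (by omega)]
      exact Ideal.zero_mem _

theorem comap_rev {G : MvPolynomial (Fin (n + 1)) k} (hG : G.IsHomogeneous d) (e : ℕ)
    {P : Ideal (MvPolynomial (Fin (e + 1) × Fin (n + 1)) k)} {D : ℕ} (h : IG (chainI G e) P D) :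
    P.comap (rename (R := k) fun p : Fin (e + 1) × Fin (n + 1) => (p.1.rev, p.2)) = P := by
  have hP := h.prime
  have h1 : P ≤ P.comap (rename (R := k) fun p : Fin (e + 1) × Fin (n + 1) => (p.1.rev, p.2)) := by
    refine h.min _ (Ideal.comap_isPrime _ _) ?_
    exact (rev_chainI hG e).trans (Ideal.comap_mono h.le)
  refine le_antisymm ?_ h1
  intro x hx
  have h2 := h1 hx
  rw [Ideal.mem_comap] at h2
  rw [Ideal.mem_comap] at hx
  have h3 := h1 hx
  rw [Ideal.mem_comap, rename_rename] at h3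
  have h4 : ((fun p : Fin (e + 1) × Fin (n + 1) => (p.1.rev, p.2)) ∘ fun p => (p.1.rev, p.2)) = id := by
    funext p
    simp
  rwa [h4, rename_id_apply] at h3

theorem comap_last {G : MvPolynomial (Fin (n + 1)) k} (hG : G.IsHomogeneous d) (e : ℕ)
    {P : Ideal (MvPolynomial (Fin (e + 1) × Fin (n + 1)) k)} {D : ℕ} (h : IG (chainI G e) P D) :
    P.comap (rename (R := k) (Prod.mk (Fin.last e))) = P.comap (rename (R := k) (Prod.mk 0)) := by
  conv_lhs => rw [← comap_rev hG e h]
  ext x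
  rw [Ideal.mem_comap, Ideal.mem_comap, rename_rename, Ideal.mem_comap]
  have h4 : ((fun p : Fin (e + 1) × Fin (n + 1) => (p.1.rev, p.2)) ∘ Prod.mk (Fin.last e)) = Prod.mk 0 := by
    funext p
    simp
  rw [h4]

/-! ### Dimension of a linear section -/

theorem dim_le_comap {ρ ρ' : Type*} (f : ρ → ρ') (Q : Ideal (MvPolynomial ρ' k)) (h : ∀ j ∉ Set.range f, X j ∈ Q) :
    ringKrullDim (MvPolynomial ρ' k ⧸ Q) ≤ ringKrullDim (MvPolynomial ρ k ⧸ Q.comap (rename (R := k) f)) := by
  refine ringKrullDim_le_of_surjective (Ideal.quotientMap Q (rename (R := k) f).toRingHom le_rfl) ?_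
  intro y
  obtain ⟨p, rfl⟩ := Ideal.Quotient.mk_surjective y
  induction p using MvPolynomial.induction_on with
  | C x => exact ⟨Ideal.Quotient.mk _ (C x), by simp⟩
  | add p q hp hq =>
    obtain ⟨a, ha⟩ := hp
    obtain ⟨b, hb⟩ := hq
    exact ⟨a + b, by rw [map_add, ha, hb, map_add]⟩
  | mul_X p j hp =>
    obtain ⟨a, ha⟩ := hp
    by_cases hj : j ∈ Set.range f
    · obtain ⟨i, rfl⟩ := hj
      exact ⟨a * Ideal.Quotient.mk _ (X i), by rw [map_mul, ha, map_mul]; simp⟩
    · refine ⟨0, ?_⟩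
      rw [map_zero, map_mul, Ideal.Quotient.eq_zero_iff_mem.2 (h j hj), mul_zero]

/-! ### The induction -/

theorem IG.le_dim' {σ : Type*} [Finite σ] {I P : Ideal (MvPolynomial σ k)} {D : ℕ} (h : IG I P D)
    {Q : Ideal (MvPolynomial σ k)} (hQ : Q.IsPrime) (hIQ : I ≤ Q) : ringKrullDim (MvPolynomial σ k ⧸ Q) ≤ D := by
  rw [← h.dim]
  exact ringKrullDim_le_of_surjective (Ideal.Quotient.factor (h.min Q hQ hIQ)) (Ideal.Quotient.factor_surjective _)

theorem IG_base {G : MvPolynomial (Fin (n + 1)) k} {δ : ℕ} (hG : Good G d δ) :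
    IG (Ideal.span {G}) (Ideal.span {G}) n := by
  have hgen : Gen (Ideal.span {G}) n := ⟨{G}, by simp, by simp [add_comm]⟩
  refine ⟨hG.prime, le_rfl, fun Q _ h => h, ?_, ?_, hgen⟩
  · intro x hx
    exact ⟨1, fun h => hG.prime.ne_top ((Ideal.eq_top_iff_one _).2 h), by rwa [one_mul]⟩
  · refine le_antisymm (dim_of_mem hG.ne (Ideal.mem_span_singleton_self G)) (hgen.le_dim ?_)
    have := hG.prime
    rw [Ideal.minimalPrimes_eq_subsingleton_self]
    rfl

/-- The chain scheme is irreducible, generically reduced of dimension `n + e δ`, the end points are generic. -/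
def ChainOK (G : MvPolynomial (Fin (n + 1)) k) (δ e : ℕ) : Prop :=
  ∃ P, IG (chainI G e) P (n + e * δ) ∧ P.comap (rename (R := k) (Prod.mk 0)) = Ideal.span {G}

instance : Subsingleton (Fin (0 + 1)) := inferInstanceAs (Subsingleton (Fin 1))

theorem chain_zero {G : MvPolynomial (Fin (n + 1)) k} {δ : ℕ} (hG : Good G d δ) : ChainOK G δ 0 := by
  let e0 : Fin (n + 1) ≃ Fin (0 + 1) × Fin (n + 1) := (Equiv.uniqueProd (Fin (n + 1)) (Fin 1)).symm
  have he0 : ∀ i, e0 i = (0, i) := fun i => by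
    apply e0.symm.injective
    rw [Equiv.symm_apply_apply]
    rfl
  have h := (IG_base hG).rename e0
  have h1 : chainI G 0 = (Ideal.span {G}).comap (renameEquiv k e0.symm) := by
    rw [comap_rename_symm, Ideal.map_span, Set.image_singleton, chainI]
    have h2 : ∀ j, ptEq G 0 j = rename e0 G := by
      intro j
      rw [ptEq, eval₂_C_X]
      congr 2
      funext i
      rw [he0, Subsingleton.elim j 0]
    refine le_antisymm ?_ ?_
    · rw [Ideal.span_le]
      rintro _ (⟨j, rfl⟩ | ⟨⟨j, m⟩, rfl⟩)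
      · rw [h2]
        exact Ideal.mem_span_singleton_self _
      · exact j.elim0
    · rw [Ideal.span_singleton_le_iff_mem, ← h2 0]
      exact Ideal.subset_span (Or.inl ⟨0, rfl⟩)
  refine ⟨_, by rw [h1, zero_mul, add_zero]; exact h, ?_⟩
  ext x
  rw [Ideal.mem_comap, Ideal.mem_comap]
  have h3 : renameEquiv k e0.symm (rename (Prod.mk 0) x) = x := by
    change rename e0.symm (rename (Prod.mk 0) x) = x
    rw [rename_rename]
    have h4 : (e0.symm ∘ Prod.mk 0) = id := rfl
    rw [h4, rename_id_apply]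
  rw [h3]

theorem exists_X_notMem {G : MvPolynomial (Fin (n + 1)) k} {δ : ℕ} (hG : Good G d δ) (hn : 1 ≤ n) :
    ∃ i, X i ∉ Ideal.span {G} := by
  by_contra hcon
  push Not at hcon
  have h1 := dim_le_comap (k := k) (fun i : Fin 0 => (i.elim0 : Fin (n + 1))) (Ideal.span {G}) fun j _ => hcon j
  rw [(IG_base hG).dim] at h1
  have h2 := h1.trans (ringKrullDim_quotient_le _)
  rw [ringKrullDim_mvPolynomial_fin] at h2
  have h3 : n ≤ 0 := by exact_mod_cast h2
  omega

theorem chain_succ [IsAlgClosed k] {G : MvPolynomial (Fin (n + 1)) k} {δ : ℕ} (hG : Good G d δ) (hn : 1 ≤ n) (e : ℕ)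
    (h : ChainOK G δ e)
    (ha0 : ∀ Q : Ideal (MvPolynomial (Fin (e + 1) × Fin (n + 1)) k), Q.IsPrime → chainI G e ≤ Q →
      (∀ i, X (Fin.last e, i) ∈ Q) → ringKrullDim (MvPolynomial (Fin (e + 1) × Fin (n + 1)) k ⧸ Q) +
        ((n + 1 : ℕ) : WithBot ℕ∞) ≤ ((n + e * δ + δ : ℕ) : WithBot ℕ∞)) :
    ChainOK G δ (e + 1) := by
  obtain ⟨P, hP, hP0⟩ := h
  have hlast : P.comap (rename (R := k) (Prod.mk (Fin.last e))) = Ideal.span {G} := by
    rw [comap_last hG.hom e hP, hP0]
  obtain ⟨i₀, hi₀⟩ := exists_X_notMem hG hn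
  have hcom : P.comap (eval₂Hom C fun i => X (Fin.last e, i)) = Ideal.span {G} := by
    rw [← hlast]
    ext x
    rw [Ideal.mem_comap, Ideal.mem_comap, coe_eval₂Hom]
    exact iff_of_eq (congrArg (· ∈ P) (eval₂_C_X (Prod.mk (Fin.last e)) x))
  obtain ⟨Q₀, hQ₀, hQ₀P⟩ := step hG hP (fun i => X (Fin.last e, i))
    (Ideal.subset_span (Or.inl ⟨Fin.last e, rfl⟩)) hcom i₀ (fun hi => hi₀ (by
      rw [← hlast, Ideal.mem_comap, rename_X]
      exact hi)) ha0
  have h1 := hQ₀.rename (chE e n)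
  rw [← chainI_succ hG.hom] at h1
  refine ⟨_, by rw [add_mul, one_mul, ← add_assoc]; exact h1, ?_⟩
  rw [← hP0, ← hQ₀P]
  ext x
  rw [Ideal.mem_comap, Ideal.mem_comap, Ideal.mem_comap, Ideal.mem_comap]
  have h3 : renameEquiv k (chE e n).symm (rename (Prod.mk 0) x) = rename Sum.inl (rename (Prod.mk 0) x) := by
    change rename (chE e n).symm (rename (Prod.mk 0) x) = _
    rw [rename_rename, rename_rename]
    congr 2
  rw [h3]

theorem chain [IsAlgClosed k] {G : MvPolynomial (Fin (n + 1)) k} {δ : ℕ} (hG : Good G d δ) (hd : 1 ≤ d)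
    (h2d : 2 * d ≤ n + 1) (e : ℕ) : ChainOK G δ e := by
  have hδ := hG.sum
  have hn : 1 ≤ n := by omega
  induction e using Nat.twoStepInduction with
  | zero => exact chain_zero hG
  | one =>
    refine chain_succ hG hn 0 (chain_zero hG) ?_
    intro Q hQ hIQ hX
    have h1 := dim_le_comap (k := k) (fun i : Fin 0 => (i.elim0 : Fin (0 + 1) × Fin (n + 1))) Q (by
      rintro ⟨j, i⟩ -
      have hj : j = Fin.last 0 := Subsingleton.elim _ _
      rw [hj]
      exact hX i)
    have h2 := h1.trans (ringKrullDim_quotient_le _)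
    rw [ringKrullDim_mvPolynomial_fin] at h2
    obtain ⟨f, -, hf, -⟩ := exists_nat_dim Q
    rw [hf] at h2 ⊢
    have h2' : f ≤ 0 := by exact_mod_cast h2
    have h3 : f + (n + 1) ≤ n + 0 * δ + δ := by omega
    exact_mod_cast h3
  | more e ih1 ih2 =>
    refine chain_succ hG hn (e + 1) ih2 ?_
    intro Q hQ hIQ hX
    obtain ⟨P, hP, -⟩ := ih1
    have h1 := dim_le_comap (k := k) (fun p : Fin (e + 1) × Fin (n + 1) => (p.1.castSucc, p.2)) Q (by
      rintro ⟨j, i⟩ hji
      have hj : j = Fin.last (e + 1) := by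
        by_contra hj
        obtain ⟨j', rfl⟩ := Fin.exists_castSucc_eq.2 hj
        exact hji ⟨(j', i), rfl⟩
      rw [hj]
      exact hX i)
    have hQ' : (Q.comap (rename (R := k) fun p : Fin (e + 1) × Fin (n + 1) => (p.1.castSucc, p.2))).IsPrime :=
      Ideal.comap_isPrime _ _
    have h2 := h1.trans (hP.le_dim' hQ' ?_)
    · obtain ⟨f, -, hf, -⟩ := exists_nat_dim Q
      rw [hf] at h2 ⊢
      have h2' : f ≤ n + e * δ := by exact_mod_cast h2
      have h3 : f + (n + 1) ≤ n + (e + 1) * δ + δ := by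
        rw [add_mul]
        omega
      exact_mod_cast h3
    · rw [chainI, Ideal.span_le]
      rintro _ (⟨j, rfl⟩ | ⟨⟨j, m⟩, rfl⟩)
      · rw [SetLike.mem_coe, Ideal.mem_comap, rename_ptEq G e (e + 1) Fin.castSucc j]
        exact hIQ (Ideal.subset_span (Or.inl ⟨_, rfl⟩))
      · rw [SetLike.mem_coe, Ideal.mem_comap, rename_chainEq]
        exact hIQ (Ideal.subset_span (Or.inr ⟨_, rfl⟩))

end K791
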