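import Groth.Agent.Fano.K791.IG
import Mathlib.RingTheory.Filtration
import Mathlib.RingTheory.Localization.AtPrime.Basic

/-!
# Degeneration to an irreducible generically reduced special fibre

`degenerate`: an ideal `𝔞` of `k[t, c]` with the expected number of generators, whose minimal primes contain no unit constant
term, and whose special fibre `t = 0` is irreducible and generically reduced, is irreducible and generically reduced.
-/

set_option autoImplicit false

namespace K791

open MvPolynomial K714.DimMv Groth.Agent.CalgC.DimFT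

section Local

/-- If the maximal ideal of `(R/𝔞)_𝔮` is generated by `t`, and `t` is in no minimal prime, then there is only one minimal
prime. -/
theorem exists_unique_minimal {R : Type*} [CommRing R] [IsNoetherianRing R] (𝔞 𝔮 : Ideal R) [h𝔮 : 𝔮.IsPrime]
    (h𝔞𝔮 : 𝔞 ≤ 𝔮) (t : R) (ht : t ∈ 𝔮) (ha : ∀ y ∈ 𝔮, ∃ s ∉ 𝔮, s * y ∈ 𝔞 ⊔ Ideal.span {t})
    (hb : ∀ Q ∈ 𝔞.minimalPrimes, Q ≤ 𝔮 ∧ t ∉ Q) :
    ∃ P ∈ 𝔞.minimalPrimes, (∀ x ∈ P, ∃ s ∉ 𝔮, s * x ∈ 𝔞) ∧ ∀ Q : Ideal R, Q.IsPrime → 𝔞 ≤ Q → P ≤ Q := by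
  let B := Localization.AtPrime 𝔮
  have hNB : IsNoetherianRing B := IsLocalization.isNoetherianRing 𝔮.primeCompl B inferInstance
  have key : ∀ Q ∈ 𝔞.minimalPrimes, ∀ x ∈ Q, ∃ s ∉ 𝔮, s * x ∈ 𝔞 := by
    intro Q hQ x hx
    have hQp : Q.IsPrime := hQ.1.1
    obtain ⟨hQ𝔮, htQ⟩ := hb Q hQ
    have hdisj : Disjoint (𝔮.primeCompl : Set R) (Q : Set R) := by
      rw [Set.disjoint_left]
      intro a ha' haQ
      exact ha' (hQ𝔮 haQ)
    have hQBp : (Q.map (algebraMap R B)).IsPrime := IsLocalization.isPrime_of_isPrime_disjoint 𝔮.primeCompl B Q hQp hdisj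
    have hQBc : (Q.map (algebraMap R B)).comap (algebraMap R B) = Q :=
      IsLocalization.under_map_of_isPrime_disjoint 𝔮.primeCompl B hQp hdisj
    have hmax : ∀ u : B, u ∈ IsLocalRing.maximalIdeal B → u ∈ 𝔞.map (algebraMap R B) ⊔ Ideal.span {algebraMap R B t} := by
      intro u hu
      obtain ⟨⟨y, s⟩, hys⟩ := IsLocalization.surj 𝔮.primeCompl u
      have hsu : IsUnit (algebraMap R B s) := IsLocalization.map_units B s
      have hy : algebraMap R B y ∈ IsLocalRing.maximalIdeal B := by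
        rw [← hys]
        exact Ideal.mul_mem_right _ _ hu
      have hy' : y ∈ 𝔮 := (IsLocalization.AtPrime.to_map_mem_maximal_iff B 𝔮 y).1 hy
      obtain ⟨s', hs', hs'y⟩ := ha y hy'
      have hs'u : IsUnit (algebraMap R B s') := IsLocalization.map_units B (⟨s', hs'⟩ : 𝔮.primeCompl)
      have h1 := Ideal.mem_map_of_mem (algebraMap R B) hs'y
      rw [map_mul, Ideal.map_sup, Ideal.map_span, Set.image_singleton] at h1
      have h2 := (Ideal.unit_mul_mem_iff_mem _ hs'u).1 h1
      rw [← hys] at h2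
      exact (Ideal.mul_unit_mem_iff_mem _ hsu).1 h2
    have ht𝔮 : algebraMap R B t ∈ IsLocalRing.maximalIdeal B := (IsLocalization.AtPrime.to_map_mem_maximal_iff B 𝔮 t).2 ht
    have hlt : 𝔞.map (algebraMap R B) ≤ IsLocalRing.maximalIdeal B := by
      rw [Ideal.map_le_iff_le_comap]
      intro y hy
      exact (IsLocalization.AtPrime.to_map_mem_maximal_iff B 𝔮 y).2 (h𝔞𝔮 hy)
    have hxB : algebraMap R B x ∈ 𝔞.map (algebraMap R B) := by
      by_contra hcon
      have h1 : ∃ m, algebraMap R B x ∉ 𝔞.map (algebraMap R B) ⊔ Ideal.span {algebraMap R B t ^ m} := by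
        by_contra h2
        push Not at h2
        apply hcon
        have hnt : Nontrivial (B ⧸ 𝔞.map (algebraMap R B)) := by
          apply Ideal.Quotient.nontrivial_iff.2
          intro h3
          exact (IsLocalRing.maximalIdeal.isMaximal B).ne_top (top_le_iff.1 (h3 ▸ hlt))
        have hloc : IsLocalRing (B ⧸ 𝔞.map (algebraMap R B)) :=
          IsLocalRing.of_surjective' (Ideal.Quotient.mk _) Ideal.Quotient.mk_surjective
        have hI : Ideal.span {Ideal.Quotient.mk (𝔞.map (algebraMap R B)) (algebraMap R B t)} ≠ ⊤ := by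
          rw [Ne, Ideal.span_singleton_eq_top, isUnit_iff_exists_inv]
          rintro ⟨b, hb'⟩
          obtain ⟨b, rfl⟩ := Ideal.Quotient.mk_surjective b
          rw [← map_mul, ← map_one (Ideal.Quotient.mk (𝔞.map (algebraMap R B))), Ideal.Quotient.eq] at hb'
          have h5 := hlt hb'
          have h6 := Ideal.sub_mem _ (Ideal.mul_mem_right b _ ht𝔮) h5
          rw [sub_sub_cancel] at h6
          exact (IsLocalRing.maximalIdeal.isMaximal B).ne_top ((Ideal.eq_top_iff_one _).2 h6)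
        have h3 := Ideal.iInf_pow_eq_bot_of_isLocalRing _ hI
        rw [← Ideal.Quotient.eq_zero_iff_mem]
        rw [← Ideal.mem_bot, ← h3, Ideal.mem_iInf]
        intro m
        rw [Ideal.span_singleton_pow, ← map_pow]
        obtain ⟨a', ha', b', hb', hab⟩ := Submodule.mem_sup.1 (h2 m)
        rw [← hab, map_add, Ideal.Quotient.eq_zero_iff_mem.2 ha', zero_add]
        obtain ⟨c, rfl⟩ := Ideal.mem_span_singleton'.1 hb'
        rw [map_mul]
        exact Ideal.mul_mem_left _ _ (Ideal.mem_span_singleton_self _)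
      classical
      obtain ⟨m, hm, hmin⟩ : ∃ m, algebraMap R B x ∈ 𝔞.map (algebraMap R B) ⊔ Ideal.span {algebraMap R B t ^ m} ∧
          algebraMap R B x ∉ 𝔞.map (algebraMap R B) ⊔ Ideal.span {algebraMap R B t ^ (m + 1)} := by
        have h2 := Nat.find_spec h1
        rcases hf : Nat.find h1 with _ | m
        · exfalso
          rw [hf, pow_zero, Ideal.span_singleton_one, sup_top_eq] at h2
          exact h2 trivial
        · refine ⟨m, ?_, by rw [← hf]; exact h2⟩
          have h3 := Nat.find_min h1 (m := m) (by omega)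
          rwa [not_not] at h3
      obtain ⟨a', ha', b', hb', hab⟩ := Submodule.mem_sup.1 hm
      obtain ⟨u, rfl⟩ := Ideal.mem_span_singleton'.1 hb'
      by_cases hu : u ∈ IsLocalRing.maximalIdeal B
      · apply hmin
        obtain ⟨a'', ha'', b'', hb'', hab'⟩ := Submodule.mem_sup.1 (hmax u hu)
        obtain ⟨u', rfl⟩ := Ideal.mem_span_singleton'.1 hb''
        have h2 : algebraMap R B x = (a' + a'' * algebraMap R B t ^ m) + u' * algebraMap R B t ^ (m + 1) := by
          rw [← hab, ← hab']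
          ring
        rw [h2]
        refine Ideal.add_mem _ (Ideal.mem_sup_left (Ideal.add_mem _ ha' (Ideal.mul_mem_right _ _ ha'')))
          (Ideal.mem_sup_right (Ideal.mul_mem_left _ _ (Ideal.mem_span_singleton_self _)))
      · rw [IsLocalRing.notMem_maximalIdeal] at hu
        have h2 : u * algebraMap R B t ^ m ∈ Q.map (algebraMap R B) := by
          have h3 : u * algebraMap R B t ^ m = algebraMap R B x - a' := by
            rw [← hab]
            ring
          rw [h3]
          exact Ideal.sub_mem _ (Ideal.mem_map_of_mem _ hx) (Ideal.map_mono hQ.1.2 ha')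
        rw [Ideal.unit_mul_mem_iff_mem _ hu] at h2
        have h3 := hQBp.mem_of_pow_mem _ h2
        rw [← Ideal.mem_comap, hQBc] at h3
        exact htQ h3
    have h6 := (IsLocalization.algebraMap_mem_map_algebraMap_iff 𝔮.primeCompl B 𝔞 x).1 hxB
    obtain ⟨s, hs, hsx⟩ := h6
    exact ⟨s, hs, hsx⟩
  obtain ⟨P, hP, -⟩ := Ideal.exists_minimalPrimes_le h𝔞𝔮
  refine ⟨P, hP, key P hP, ?_⟩
  intro Q hQ hIQ
  obtain ⟨Q', hQ', hQ'Q⟩ := Ideal.exists_minimalPrimes_le hIQ
  intro x hx
  apply hQ'Q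
  obtain ⟨s, hs, hsx⟩ := key P hP x hx
  have := hQ'.1.1
  refine (this.mem_or_mem (hQ'.1.2 hsx)).resolve_left fun h => hs ((hb Q' hQ').1 h)

end Local

variable {k : Type*} [Field k]

/-- Krull: one equation lowers the dimension by at most one. -/
theorem dim_le_succ {ι : Type*} [Finite ι] (P Q : Ideal (MvPolynomial ι k)) [P.IsPrime] (t : MvPolynomial ι k)
    (hQ : Q ∈ (P ⊔ Ideal.span {t}).minimalPrimes) :
    ringKrullDim (MvPolynomial ι k ⧸ P) ≤ ringKrullDim (MvPolynomial ι k ⧸ Q) + 1 := by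
  have hQp : Q.IsPrime := hQ.1.1
  have hPQ : P ≤ Q := le_sup_left.trans hQ.1.2
  have h1 : Q.height ≤ P.height + 1 := by
    set Q1 : Ideal (MvPolynomial ι k ⧸ P) := Q.map (Ideal.Quotient.mk P) with hQ1
    have hker : RingHom.ker (Ideal.Quotient.mk P) ≤ Q := by rw [Ideal.mk_ker]; exact hPQ
    have hQ1p : Q1.IsPrime := Ideal.map_isPrime_of_surjective Ideal.Quotient.mk_surjective hker
    have h2 := height_add_height_quotient k (MvPolynomial ι k) P Q1
    rw [hQ1, Ideal.comap_map_mk hPQ, ← hQ1] at h2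
    have h3 : Q1 ∈ (Ideal.span {Ideal.Quotient.mk P t}).minimalPrimes := by
      have h5 : Ideal.span {Ideal.Quotient.mk P t} = (Ideal.span {t}).map (Ideal.Quotient.mk P) := by
        rw [Ideal.map_span, Set.image_singleton]
      rw [h5, Ideal.minimalPrimes_map_of_surjective Ideal.Quotient.mk_surjective, Ideal.mk_ker]
      exact ⟨Q, by rwa [sup_comm], rfl⟩
    have h4 := Ideal.height_le_card_of_mem_minimalPrimes_span (Set.finite_singleton _) h3
    rw [Set.ncard_singleton] at h4
    rw [← h2]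
    exact add_le_add le_rfl (by exact_mod_cast h4)
  obtain ⟨a, b, ha, -, hb, hab⟩ := exists_nat_dim P
  obtain ⟨a', b', ha', -, hb', hab'⟩ := exists_nat_dim Q
  rw [hb, hb'] at h1
  have h1' : b' ≤ b + 1 := by exact_mod_cast h1
  rw [ha, ha']
  have : a ≤ a' + 1 := by omega
  exact_mod_cast this

section Ev

variable {σ : Type*}

/-- Evaluation of the first variable. -/
noncomputable def ev (c : MvPolynomial σ k) : MvPolynomial (Option σ) k →ₐ[k] MvPolynomial σ k :=
  aeval fun o => o.elim c X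

@[simp] theorem ev_none (c : MvPolynomial σ k) : ev c (X none) = c := by simp [ev]

@[simp] theorem ev_some (c : MvPolynomial σ k) (i : σ) : ev c (X (some i)) = X i := by simp [ev]

@[simp] theorem ev_C (c : MvPolynomial σ k) (x : k) : ev c (C x) = C x := by simp [ev]

theorem ev_rename (c p : MvPolynomial σ k) : ev c (rename some p) = p := by
  rw [ev, aeval_rename]
  have : ((fun o : Option σ => o.elim c X) ∘ some) = X := rfl
  rw [this, aeval_X_left_apply]

theorem ev_surjective (c : MvPolynomial σ k) : Function.Surjective (ev c) := fun p => ⟨_, ev_rename c p⟩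

theorem sub_ev_mem (p : MvPolynomial (Option σ) k) : p - rename some (ev 0 p) ∈ Ideal.span {X none} := by
  induction p using MvPolynomial.induction_on with
  | C a => simp
  | add p q hp hq =>
    have := Ideal.add_mem _ hp hq
    simp only [map_add]
    convert this using 1
    ring
  | mul_X p j hp =>
    rcases j with _ | j
    · rw [map_mul, ev_none, mul_zero, map_zero, sub_zero]
      exact Ideal.mul_mem_left _ _ (Ideal.mem_span_singleton_self _)
    · have h1 := Ideal.mul_mem_right (X (some j)) _ hp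
      rw [map_mul, ev_some, map_mul, rename_X]
      convert h1 using 1
      ring

theorem dim_comap_ev (c : MvPolynomial σ k) (Q : Ideal (MvPolynomial σ k)) :
    ringKrullDim (MvPolynomial (Option σ) k ⧸ Q.comap (ev c)) = ringKrullDim (MvPolynomial σ k ⧸ Q) :=
  ringKrullDim_eq_of_ringEquiv (RingEquiv.ofBijective (Ideal.quotientMap Q (ev c).toRingHom le_rfl)
    ⟨Ideal.quotientMap_injective, Ideal.quotientMap_surjective (ev_surjective c)⟩)

end Ev

/-- Degeneration: `𝔞` is the ideal of a family over the line whose fibre over `0` is irreducible and generically reduced. -/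
theorem degenerate {σ : Type*} [Finite σ] {I₀ P₀ : Ideal (MvPolynomial σ k)} {D : ℕ} (h : IG I₀ P₀ D)
    (𝔞 : Ideal (MvPolynomial (Option σ) k)) (hgen : Gen 𝔞 (D + 1)) (hmap : 𝔞.map (ev (0 : MvPolynomial σ k)) = I₀)
    (hmin : ∀ Q ∈ 𝔞.minimalPrimes, Q ≤ RingHom.ker (constantCoeff (σ := Option σ) (R := k))) :
    ∃ P, IG 𝔞 P (D + 1) ∧ P ≤ P₀.comap (ev (0 : MvPolynomial σ k)) ∧ X none ∉ P := by
  have hP₀ := h.prime
  have h𝔮p : (P₀.comap (ev (0 : MvPolynomial σ k))).IsPrime := Ideal.comap_isPrime _ _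
  set 𝔮 := P₀.comap (ev (0 : MvPolynomial σ k)) with h𝔮
  have ht𝔮 : X none ∈ 𝔮 := by
    rw [h𝔮, Ideal.mem_comap, ev_none]
    exact Ideal.zero_mem _
  have h𝔞𝔮 : 𝔞 ≤ 𝔮 := by
    rw [h𝔮, ← Ideal.map_le_iff_le_comap, hmap]
    exact h.le
  have hb : ∀ Q ∈ 𝔞.minimalPrimes, (Q ≤ 𝔮 ∧ X none ∉ Q) ∧ ringKrullDim (MvPolynomial (Option σ) k ⧸ Q) = (D + 1 : ℕ) := by
    intro Q hQ
    have hQp : Q.IsPrime := hQ.1.1
    have hle : Q ⊔ Ideal.span {X none} ≤ RingHom.ker (constantCoeff (σ := Option σ) (R := k)) := by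
      refine sup_le (hmin Q hQ) ?_
      rw [Ideal.span_singleton_le_iff_mem, RingHom.mem_ker, constantCoeff_X]
    have hkerp : (RingHom.ker (constantCoeff (σ := Option σ) (R := k))).IsPrime := RingHom.ker_isPrime _
    obtain ⟨Q', hQ', -⟩ := Ideal.exists_minimalPrimes_le hle
    have hQ'p : Q'.IsPrime := hQ'.1.1
    have hker : RingHom.ker (ev (0 : MvPolynomial σ k)) ≤ Q' := by
      intro x hx
      rw [RingHom.mem_ker] at hx
      have h1 := sub_ev_mem x
      rw [hx, map_zero, sub_zero] at h1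
      exact hQ'.1.2 (Ideal.mem_sup_right h1)
    have hQ''p : (Q'.map (ev (0 : MvPolynomial σ k))).IsPrime := Ideal.map_isPrime_of_surjective (ev_surjective 0) hker
    have hQ'' : (Q'.map (ev (0 : MvPolynomial σ k))).comap (ev (0 : MvPolynomial σ k)) = Q' := by
      rw [Ideal.comap_map_of_surjective _ (ev_surjective 0), sup_eq_left]
      exact hker
    have hPQ : P₀ ≤ Q'.map (ev (0 : MvPolynomial σ k)) := by
      refine h.min _ hQ''p ?_
      rw [← hmap]
      exact Ideal.map_mono ((hQ.1.2.trans le_sup_left).trans hQ'.1.2)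
    have hdim := hgen.le_dim hQ
    have hs := dim_le_succ Q Q' (X none) hQ'
    have hd' : ringKrullDim (MvPolynomial (Option σ) k ⧸ Q') =
        ringKrullDim (MvPolynomial σ k ⧸ Q'.map (ev (0 : MvPolynomial σ k))) := by
      rw [← dim_comap_ev 0 (Q'.map (ev (0 : MvPolynomial σ k))), hQ'']
    obtain ⟨f, -, hf, -⟩ := exists_nat_dim Q
    obtain ⟨f', -, hf', -⟩ := exists_nat_dim Q'
    rw [hf] at hdim hs
    rw [hf'] at hs hd'
    have e1 : D + 1 ≤ f := by exact_mod_cast hdim
    have e2 : f ≤ f' + 1 := by exact_mod_cast hs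
    have heq : P₀ = Q'.map (ev (0 : MvPolynomial σ k)) := by
      rcases hPQ.eq_or_lt with h1 | h1
      · exact h1
      · exfalso
        have h2 := dim_lt h1 h.dim.le
        rw [← hd'] at h2
        have h3 : f' + 1 ≤ D := by exact_mod_cast h2
        omega
    have hf'D : f' = D := by
      rw [← heq, h.dim] at hd'
      exact_mod_cast hd'
    have hQ'𝔮 : Q' = 𝔮 := by rw [h𝔮, heq, hQ'']
    refine ⟨⟨?_, ?_⟩, ?_⟩
    · rw [← hQ'𝔮]
      exact le_sup_left.trans hQ'.1.2
    · intro ht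
      have h3 : Q ⊔ Ideal.span {X none} = Q := sup_eq_left.2 ((Ideal.span_singleton_le_iff_mem _).2 ht)
      rw [h3] at hQ'
      rw [Ideal.minimalPrimes_eq_subsingleton_self] at hQ'
      rw [Set.mem_singleton_iff.1 hQ'] at hf'
      rw [hf'] at hf
      have h4 : f' = f := by exact_mod_cast hf
      omega
    · rw [hf]
      have h4 : f = D + 1 := by omega
      rw [h4]
  have ha : ∀ y ∈ 𝔮, ∃ s ∉ 𝔮, s * y ∈ 𝔞 ⊔ Ideal.span {X none} := by
    intro y hy
    rw [h𝔮, Ideal.mem_comap] at hy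
    obtain ⟨s, hs, hsy⟩ := h.red _ hy
    rw [← hmap, Ideal.mem_map_iff_of_surjective _ (ev_surjective 0)] at hsy
    obtain ⟨α, hα, hαy⟩ := hsy
    refine ⟨rename some s, ?_, ?_⟩
    · rw [h𝔮, Ideal.mem_comap, ev_rename]
      exact hs
    · have h1 := sub_ev_mem (rename some s * y - α)
      rw [map_sub, map_mul, ev_rename, hαy, sub_self, map_zero, sub_zero] at h1
      have h2 : rename some s * y = α + (rename some s * y - α) := by ring
      rw [h2]
      exact Ideal.add_mem _ (Ideal.mem_sup_left hα) (Ideal.mem_sup_right h1)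
  obtain ⟨P, hP, hred, hPmin⟩ := exists_unique_minimal 𝔞 𝔮 h𝔞𝔮 (X none) ht𝔮 ha fun Q hQ => (hb Q hQ).1
  obtain ⟨⟨hP𝔮, htP⟩, hPdim⟩ := hb P hP
  refine ⟨P, ⟨hP.1.1, hP.1.2, hPmin, ?_, hPdim, hgen⟩, hP𝔮, htP⟩
  intro x hx
  obtain ⟨s, hs, hsx⟩ := hred x hx
  exact ⟨s, fun h' => hs (hP𝔮 h'), hsx⟩

/-- The general fibre of a degeneration which is trivial outside of `0`. -/
theorem general {σ : Type*} [Finite σ] {𝔞 P : Ideal (MvPolynomial (Option σ) k)} {D : ℕ} (h : IG 𝔞 P (D + 1))
    {P₀ : Ideal (MvPolynomial σ k)} (hP₀ : P₀.IsPrime) (hP : P ≤ P₀.comap (ev (0 : MvPolynomial σ k)))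
    (κ : MvPolynomial σ k →+* MvPolynomial (Option σ) k) (hκ : ∀ x, ev (1 : MvPolynomial σ k) (κ x) = x)
    (M : Ideal (MvPolynomial σ k)) (hM : Gen M D) (h1 : ∀ f ∈ M, κ f ∈ P) (h2 : ∀ f ∈ 𝔞, ev (1 : MvPolynomial σ k) f ∈ M) :
    (P.comap κ).IsPrime ∧ P.comap κ = M.radical ∧ ringKrullDim (MvPolynomial σ k ⧸ P.comap κ) = D := by
  have hPp := h.prime
  have hp : (P.comap κ).IsPrime := Ideal.comap_isPrime _ _
  have hle : M ≤ P.comap κ := fun f hf => h1 f hf
  have hPle : ∀ Q : Ideal (MvPolynomial σ k), Q.IsPrime → M ≤ Q → P ≤ Q.comap (ev (1 : MvPolynomial σ k)) := by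
    intro Q hQ hMQ
    exact h.min _ (Ideal.comap_isPrime _ _) fun f hf => hMQ (h2 f hf)
  have hmin : ∀ Q : Ideal (MvPolynomial σ k), Q.IsPrime → M ≤ Q → P.comap κ ≤ Q := by
    intro Q hQ hMQ x hx
    have h3 := hPle Q hQ hMQ hx
    rwa [Ideal.mem_comap, hκ] at h3
  refine ⟨hp, le_antisymm ?_ (hp.radical_le_iff.2 hle), ?_⟩
  · rw [Ideal.radical_eq_sInf]
    exact le_sInf fun Q hQ => hmin Q hQ.2 hQ.1
  · refine le_antisymm ?_ (hM.le_dim ⟨⟨hp, hle⟩, fun Q hQ _ => hmin Q hQ.1 hQ.2⟩)
    have h3 := hPle _ hp hle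
    have h4 : P < (P.comap κ).comap (ev (1 : MvPolynomial σ k)) := by
      refine lt_of_le_of_ne h3 ?_
      intro h5
      have h6 : X none - 1 ∈ P := by
        rw [h5, Ideal.mem_comap, map_sub, ev_none, map_one, sub_self]
        exact Ideal.zero_mem _
      have h7 := hP h6
      rw [Ideal.mem_comap, map_sub, ev_none, map_one, zero_sub, neg_mem_iff] at h7
      exact hP₀.ne_top ((Ideal.eq_top_iff_one _).2 h7)
    have h5 := dim_lt h4 h.dim.le
    rw [dim_comap_ev] at h5
    obtain ⟨f, -, hf, -⟩ := exists_nat_dim (P.comap κ)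
    rw [hf] at h5 ⊢
    have h6 : f + 1 ≤ D + 1 := by exact_mod_cast h5
    have h7 : f ≤ D := by omega
    exact_mod_cast h7

end K791
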