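import Groth.Agent.Fano.K791.Chain
import Groth.Agent.Fano.K791.DegAbs

/-!
# The degeneration of rational curves on a cone to chains of lines

`pol q = ∑ c_j t^((j-q)(j-q-1)) u^j`, `Phi q m` the coefficient of `u^m` in `G(pol q)`.
-/

set_option autoImplicit false

namespace K791

open MvPolynomial K714.DimMv Line Groth.Agent.CalgC.DimFT

universe u

section Gev

variable {k : Type*} [Field k] {n d : ℕ} {A : Type*} [CommRing A] (φ : k →+* A) {G : MvPolynomial (Fin (n + 1)) k}

theorem gev_smul (hG : G.IsHomogeneous d) (p : Polynomial A) (y : Fin (n + 1) → Polynomial A) :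
    gev φ G (fun i => p * y i) = p ^ d * gev φ G y := by
  rw [gev_eq, gev_eq, Finset.mul_sum]
  refine Finset.sum_congr rfl fun α hα => ?_
  have h : ∏ i, (p * y i) ^ α i = p ^ d * ∏ i, y i ^ α i := by
    rw [← degree_of_mem hG hα, ← Finset.prod_pow_eq_pow_sum, ← Finset.prod_mul_distrib]
    exact Finset.prod_congr rfl fun i _ => mul_pow _ _ _
  rw [h]
  ring

theorem gev_comp (y : Fin (n + 1) → Polynomial A) (q : Polynomial A) :
    (gev φ G y).comp q = gev φ G fun i => (y i).comp q := by
  rw [gev, gev, ← Polynomial.coe_compRingHom_apply, MvPolynomial.hom_eval₂]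
  congr 1
  ext x
  simp

theorem coeff_gev_zero (y : Fin (n + 1) → Polynomial A) :
    (gev φ G y).coeff 0 = eval₂ φ (fun i => (y i).coeff 0) G := by
  simp only [Polynomial.coeff_zero_eq_eval_zero]
  rw [gev, ← Polynomial.coe_evalRingHom, MvPolynomial.hom_eval₂]
  congr 1
  ext x
  simp

/-- Change of the parameter `u = l t`. -/
theorem coeff_scale (hG : G.IsHomogeneous d) (x y : Fin (n + 1) → Polynomial A) (l r : A)
    (h : ∀ i m, l ^ m * (x i).coeff m = r * (y i).coeff m) (m : ℕ) :
    l ^ m * (gev φ G x).coeff m = r ^ d * (gev φ G y).coeff m := by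
  have h1 : (gev φ G x).comp (Polynomial.C l * Polynomial.X) = Polynomial.C (r ^ d) * gev φ G y := by
    rw [gev_comp, Polynomial.C_pow, ← gev_smul φ hG]
    congr 1
    funext i
    ext m
    rw [Polynomial.comp_C_mul_X_coeff, Polynomial.coeff_C_mul, mul_comm, h]
  have h2 := congrArg (fun p => Polynomial.coeff p m) h1
  simp only [Polynomial.comp_C_mul_X_coeff, Polynomial.coeff_C_mul] at h2
  rw [← h2, mul_comm]

theorem natDegree_gev (hG : G.IsHomogeneous d) (y : Fin (n + 1) → Polynomial A) (N : ℕ)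
    (h : ∀ i, (y i).natDegree ≤ N) : (gev φ G y).natDegree ≤ d * N := by
  rw [gev_eq]
  refine Polynomial.natDegree_sum_le_of_forall_le _ _ fun α hα => ?_
  refine (Polynomial.natDegree_C_mul_le _ _).trans ((Polynomial.natDegree_prod_le _ _).trans ?_)
  rw [← degree_of_mem hG hα, Finset.sum_mul]
  exact Finset.sum_le_sum fun i _ => Polynomial.natDegree_pow_le.trans (Nat.mul_le_mul_left _ (h i))

end Gev

section Num

/-- `(j - q)(j - q - 1)`. -/
def gx (q j : ℕ) : ℕ := j ^ 2 + q * (q + 1) - (2 * q + 1) * j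

theorem gx_le (q j : ℕ) : (2 * q + 1) * j ≤ j ^ 2 + q * (q + 1) := by
  rcases Nat.lt_or_ge q j with h | h
  · obtain ⟨t, rfl⟩ := Nat.exists_eq_add_of_lt h
    nlinarith
  · obtain ⟨t, rfl⟩ := Nat.exists_eq_add_of_le h
    nlinarith

theorem gx_spec (q j : ℕ) : gx q j + (2 * q + 1) * j = j ^ 2 + q * (q + 1) := Nat.sub_add_cancel (gx_le q j)

theorem gx_self (q : ℕ) : gx q q = 0 := by
  have := gx_spec q q
  nlinarith

theorem gx_succ (q : ℕ) : gx q (q + 1) = 0 := by
  have := gx_spec q (q + 1)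
  nlinarith

theorem gx_ne {q j : ℕ} (h1 : j ≠ q) (h2 : j ≠ q + 1) : gx q j ≠ 0 := by
  intro h
  have h3 := gx_spec q j
  rw [h, zero_add] at h3
  rcases Nat.lt_or_ge q j with h | h
  · obtain ⟨t, rfl⟩ := Nat.exists_eq_add_of_lt h
    have : 0 < t := by omega
    nlinarith
  · obtain ⟨t, rfl⟩ := Nat.exists_eq_add_of_le h
    have : 0 < t := by omega
    nlinarith

end Num

section Deg

variable {k : Type u} [Field k] {n d : ℕ}

/-- The curve `∑ c_j t^((j-q)(j-q-1)) u^j`. -/
noncomputable def pol (k : Type u) [Field k] (n e q : ℕ) (i : Fin (n + 1)) :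
    Polynomial (MvPolynomial (Option (Fin (e + 1) × Fin (n + 1))) k) :=
  ∑ j : Fin (e + 1), Polynomial.C (X (some (j, i)) * X none ^ gx q j) * Polynomial.X ^ (j : ℕ)

/-- The equations of the degeneration. -/
noncomputable def Phi (G : MvPolynomial (Fin (n + 1)) k) (e q m : ℕ) :
    MvPolynomial (Option (Fin (e + 1) × Fin (n + 1))) k := (gev C G (pol k n e q)).coeff m

/-- The family of equations. -/
noncomputable def degEq (G : MvPolynomial (Fin (n + 1)) k) (d e : ℕ) :
    Option (Fin e × Fin d) → MvPolynomial (Option (Fin (e + 1) × Fin (n + 1))) k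
  | none => Phi G e 0 0
  | some (q, r) => Phi G e q (d * q + r + 1)

/-- The ideal of the degeneration. -/
noncomputable def degI (G : MvPolynomial (Fin (n + 1)) k) (d e : ℕ) :
    Ideal (MvPolynomial (Option (Fin (e + 1) × Fin (n + 1))) k) := Ideal.span (Set.range (degEq G d e))

theorem map_gev_coeff {A B : Type*} [CommRing A] [CommRing B] (θ : A →+* B) (φ : k →+* A) (G : MvPolynomial (Fin (n + 1)) k)
    (p : Fin (n + 1) → Polynomial A) (m : ℕ) :
    θ ((gev φ G p).coeff m) = (gev (θ.comp φ) G fun i => (p i).map θ).coeff m := by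
  rw [← gev_map, Polynomial.coeff_map]

theorem ev0_pol (e : ℕ) (q : Fin e) (i : Fin (n + 1)) :
    (pol k n e q i).map (ev (0 : MvPolynomial (Fin (e + 1) × Fin (n + 1)) k)).toRingHom =
      Polynomial.X ^ (q : ℕ) * (Polynomial.C (X (q.castSucc, i)) + Polynomial.C (X (q.succ, i)) * Polynomial.X) := by
  rw [pol, Polynomial.map_sum]
  have h1 : ∀ j : Fin (e + 1), (Polynomial.C (X (some (j, i)) * X none ^ gx q j) * Polynomial.X ^ (j : ℕ) :
      Polynomial (MvPolynomial (Option (Fin (e + 1) × Fin (n + 1))) k)).map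
        (ev (0 : MvPolynomial (Fin (e + 1) × Fin (n + 1)) k)).toRingHom =
      Polynomial.C (X (j, i) * 0 ^ gx q j) * Polynomial.X ^ (j : ℕ) := by
    intro j
    rw [Polynomial.map_mul, Polynomial.map_C, Polynomial.map_pow, Polynomial.map_X]
    congr 2
    change ev (0 : MvPolynomial (Fin (e + 1) × Fin (n + 1)) k) _ = _
    rw [map_mul, map_pow, ev_none, ev_some]
  rw [Finset.sum_congr rfl fun j _ => h1 j]
  have hne : q.castSucc ≠ q.succ := by
    intro h
    have := congrArg Fin.val h
    simp at this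
  rw [← Finset.sum_subset (Finset.subset_univ {q.castSucc, q.succ}), Finset.sum_pair hne]
  · rw [Fin.val_castSucc, Fin.val_succ, gx_self, gx_succ, pow_zero, mul_one, mul_one]
    ring
  · intro j _ hj
    rw [Finset.mem_insert, Finset.mem_singleton, not_or] at hj
    rw [zero_pow, mul_zero, Polynomial.C_0, zero_mul]
    refine gx_ne ?_ ?_
    · intro h
      exact hj.1 (Fin.ext (by rw [h, Fin.val_castSucc]))
    · intro h
      exact hj.2 (Fin.ext (by rw [h, Fin.val_succ]))

theorem ev0_Phi {G : MvPolynomial (Fin (n + 1)) k} (hG : G.IsHomogeneous d) (e : ℕ) (q : Fin e) (m : ℕ) :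
    ev (0 : MvPolynomial (Fin (e + 1) × Fin (n + 1)) k) (Phi G e q (d * q + m)) = chainEq G e (q, m) := by
  refine (map_gev_coeff (ev (0 : MvPolynomial (Fin (e + 1) × Fin (n + 1)) k)).toRingHom C G (pol k n e q)
    (d * q + m)).trans ?_
  have h1 : (ev (0 : MvPolynomial (Fin (e + 1) × Fin (n + 1)) k)).toRingHom.comp C = C := by
    ext x
    simp
  rw [h1]
  have h2 : (fun i => (pol k n e q i).map (ev (0 : MvPolynomial (Fin (e + 1) × Fin (n + 1)) k)).toRingHom) =
      fun i => Polynomial.X ^ (q : ℕ) * (Polynomial.C (X (q.castSucc, i)) + Polynomial.C (X (q.succ, i)) * Polynomial.X) := by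
    funext i
    exact ev0_pol e q i
  rw [h2, gev_smul _ hG, ← pow_mul, mul_comm (q : ℕ) d, Polynomial.coeff_X_pow_mul', if_pos (Nat.le_add_right _ _),
    Nat.add_sub_cancel_left]
  rfl

theorem ev1_pol (e q : ℕ) (i : Fin (n + 1)) :
    (pol k n e q i).map (ev (1 : MvPolynomial (Fin (e + 1) × Fin (n + 1)) k)).toRingHom =
      ∑ j : Fin (e + 1), Polynomial.C (X (j, i)) * Polynomial.X ^ (j : ℕ) := by
  rw [pol, Polynomial.map_sum]
  refine Finset.sum_congr rfl fun j _ => ?_
  rw [Polynomial.map_mul, Polynomial.map_C, Polynomial.map_pow, Polynomial.map_X]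
  congr 2
  change ev (1 : MvPolynomial (Fin (e + 1) × Fin (n + 1)) k) _ = _
  rw [map_mul, map_pow, ev_none, ev_some, one_pow, mul_one]

/-- The equations of the rational curves of degree `e`. -/
noncomputable def morEq (G : MvPolynomial (Fin (n + 1)) k) (e m : ℕ) : MvPolynomial (Fin (e + 1) × Fin (n + 1)) k :=
  (crv C G (fun (j : Fin (e + 1)) i => X (j, i))).coeff m

/-- The ideal of the rational curves of degree `e` on the cone `G = 0`. -/
noncomputable def morI (G : MvPolynomial (Fin (n + 1)) k) (e : ℕ) : Ideal (MvPolynomial (Fin (e + 1) × Fin (n + 1)) k) :=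
  Ideal.span (Set.range (morEq G e))

theorem ev1_Phi (G : MvPolynomial (Fin (n + 1)) k) (e q m : ℕ) :
    ev (1 : MvPolynomial (Fin (e + 1) × Fin (n + 1)) k) (Phi G e q m) = morEq G e m := by
  refine (map_gev_coeff (ev (1 : MvPolynomial (Fin (e + 1) × Fin (n + 1)) k)).toRingHom C G (pol k n e q)
    m).trans ?_
  have h1 : (ev (1 : MvPolynomial (Fin (e + 1) × Fin (n + 1)) k)).toRingHom.comp C = C := by
    ext x
    simp
  have h2 : (fun i => (pol k n e q i).map (ev (1 : MvPolynomial (Fin (e + 1) × Fin (n + 1)) k)).toRingHom) =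
      fun i => ∑ j : Fin (e + 1), Polynomial.C (X (j, i)) * Polynomial.X ^ (j : ℕ) := by
    funext i
    exact ev1_pol e q i
  rw [h1, h2]
  rfl

theorem morEq_of_lt {G : MvPolynomial (Fin (n + 1)) k} (hG : G.IsHomogeneous d) (e m : ℕ) (hm : d * e < m) :
    morEq G e m = 0 := by
  refine Polynomial.coeff_eq_zero_of_natDegree_lt (lt_of_le_of_lt (natDegree_gev C hG _ e fun i => ?_) hm)
  refine Polynomial.natDegree_sum_le_of_forall_le _ _ fun j _ => ?_
  exact (Polynomial.natDegree_C_mul_X_pow_le _ _).trans (Nat.lt_succ_iff.1 j.2)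

theorem gen_morI {G : MvPolynomial (Fin (n + 1)) k} {δ : ℕ} (hG : G.IsHomogeneous d) (hδ : δ + d = n + 1) (e : ℕ) :
    Gen (morI G e) (n + e * δ) := by
  classical
  refine ⟨(Finset.range (d * e + 1)).image (morEq G e), ?_, ?_⟩
  · rw [morI]
    refine le_antisymm (Ideal.span_mono ?_) ?_
    · rw [Finset.coe_image]
      rintro _ ⟨m, -, rfl⟩
      exact ⟨m, rfl⟩
    · rw [Ideal.span_le]
      rintro _ ⟨m, rfl⟩
      by_cases hm : m < d * e + 1
      · apply Ideal.subset_span
        rw [Finset.coe_image]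
        exact ⟨m, by simpa using hm, rfl⟩
      · rw [SetLike.mem_coe, morEq_of_lt hG e m (by omega)]
        exact Ideal.zero_mem _
  · rw [Nat.card_prod, Nat.card_eq_fintype_card, Nat.card_eq_fintype_card, Fintype.card_fin, Fintype.card_fin]
    have h1 : ((Finset.range (d * e + 1)).image (morEq G e)).card ≤ d * e + 1 :=
      Finset.card_image_le.trans (by rw [Finset.card_range])
    have h2 : (e + 1) * (n + 1) = e * (δ + d) + (n + 1) := by rw [hδ]; ring
    rw [h2]
    nlinarith

theorem gen_degI (G : MvPolynomial (Fin (n + 1)) k) {δ : ℕ} (hδ : δ + d = n + 1) (e : ℕ) :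
    Gen (degI G d e) (n + e * δ + 1) := by
  classical
  refine ⟨Finset.univ.image (degEq G d e), ?_, ?_⟩
  · rw [Finset.coe_image, Finset.coe_univ, Set.image_univ, degI]
  · have h1 : (Finset.univ.image (degEq G d e)).card ≤ e * d + 1 := by
      refine Finset.card_image_le.trans ?_
      rw [Finset.card_univ, Fintype.card_option, Fintype.card_prod, Fintype.card_fin, Fintype.card_fin]
    rw [Finite.card_option, Nat.card_prod, Nat.card_eq_fintype_card, Nat.card_eq_fintype_card, Fintype.card_fin,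
      Fintype.card_fin]
    have h2 : (e + 1) * (n + 1) = e * (δ + d) + (n + 1) := by rw [hδ]; ring
    rw [h2]
    nlinarith

theorem ev0_degEq_none (G : MvPolynomial (Fin (n + 1)) k) (e : ℕ) :
    ev (0 : MvPolynomial (Fin (e + 1) × Fin (n + 1)) k) (degEq G d e none) = ptEq G e 0 := by
  change ev (0 : MvPolynomial (Fin (e + 1) × Fin (n + 1)) k) (Phi G e 0 0) = _
  rw [Phi, coeff_gev_zero]
  have h1 : (fun i => (pol k n e 0 i).coeff 0) = fun i => X (some (0, i)) := by
    funext i
    rw [pol, Polynomial.finsetSum_coeff, Finset.sum_eq_single 0]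
    · simp [gx_self]
    · intro j _ hj
      rw [Polynomial.coeff_C_mul_X_pow, if_neg]
      intro h
      exact hj (Fin.ext h.symm)
    · intro h
      exact absurd (Finset.mem_univ _) h
  rw [h1, eval₂_C_X fun i => some ((0 : Fin (e + 1)), i)]
  rw [ev, aeval_rename, ptEq, eval₂_C_X, rename_eq_aeval]
  rfl

theorem map_degI {G : MvPolynomial (Fin (n + 1)) k} (hG : G.IsHomogeneous d) (hd : 1 ≤ d) (e : ℕ) :
    (degI G d e).map (ev (0 : MvPolynomial (Fin (e + 1) × Fin (n + 1)) k)) = chainI G e := by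
  rw [degI, Ideal.map_span, chainI]
  refine le_antisymm ?_ ?_
  · rw [Ideal.span_le]
    rintro _ ⟨_, ⟨_ | ⟨q, r⟩, rfl⟩, rfl⟩
    · rw [ev0_degEq_none]
      exact Ideal.subset_span (Or.inl ⟨0, rfl⟩)
    · change ev (0 : MvPolynomial (Fin (e + 1) × Fin (n + 1)) k) (Phi G e q (d * q + (r + 1))) ∈ _
      rw [ev0_Phi hG]
      exact Ideal.subset_span (Or.inr ⟨(q, r + 1), rfl⟩)
  · have hch : ∀ (q : Fin e) (m : ℕ), chainEq G e (q, m + 1) ∈ Ideal.span
        (ev (0 : MvPolynomial (Fin (e + 1) × Fin (n + 1)) k) '' Set.range (degEq G d e)) := by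
      intro q m
      by_cases hm : m < d
      · apply Ideal.subset_span
        refine ⟨_, ⟨some (q, ⟨m, hm⟩), rfl⟩, ?_⟩
        change ev (0 : MvPolynomial (Fin (e + 1) × Fin (n + 1)) k) (Phi G e q (d * q + (m + 1))) = _
        rw [ev0_Phi hG]
      · have h0 : chainEq G e (q, m + 1) = 0 := coeff_bin_of_lt _ hG _ _ (by change d < m + 1; omega)
        rw [h0]
        exact Ideal.zero_mem _
    have hpt : ∀ j : Fin (e + 1), ptEq G e j ∈ Ideal.span
        (ev (0 : MvPolynomial (Fin (e + 1) × Fin (n + 1)) k) '' Set.range (degEq G d e)) := by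
      intro j
      refine Fin.cases ?_ (fun q => ?_) j
      · exact Ideal.subset_span ⟨_, ⟨none, rfl⟩, ev0_degEq_none G e⟩
      · have h1 := hch q (d - 1)
        rw [Nat.sub_add_cancel hd] at h1
        rw [chainEq, coeff_bin_top _ hG] at h1
        exact h1
    rw [Ideal.span_le]
    rintro _ (⟨j, rfl⟩ | ⟨⟨q, m⟩, rfl⟩)
    · exact hpt j
    · rcases m with _ | m
      · have h1 := hpt q.castSucc
        rw [SetLike.mem_coe, chainEq, coeff_bin_zero]
        exact h1
      · exact hch q m

end Deg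

section Weight

variable {k : Type*} [Field k] {ι : Type*}

/-- The action of the multiplicative group with weights `w`. -/
noncomputable def act (w : ι → ℕ) : MvPolynomial ι k →+* Polynomial (MvPolynomial ι k) :=
  eval₂Hom (Polynomial.C.comp C) fun i => Polynomial.C (X i) * Polynomial.X ^ w i

theorem act_C (w : ι → ℕ) (x : k) : act w (C x) = Polynomial.C (C x) := by
  rw [act, eval₂Hom_C]
  rfl

theorem act_X (w : ι → ℕ) (i : ι) : act (k := k) w (X i) = Polynomial.C (X i) * Polynomial.X ^ w i := by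
  rw [act, eval₂Hom_X']

theorem eval_one_act (w : ι → ℕ) (p : MvPolynomial ι k) : (act w p).eval 1 = p := by
  have h : (Polynomial.evalRingHom (1 : MvPolynomial ι k)).comp (act w) = RingHom.id _ := by
    apply MvPolynomial.ringHom_ext
    · intro x
      rw [RingHom.comp_apply, act_C]
      simp
    · intro i
      rw [RingHom.comp_apply, act_X]
      simp
  exact RingHom.congr_fun h p

theorem eval_zero_act (w : ι → ℕ) (hw : ∀ i, w i ≠ 0) (p : MvPolynomial ι k) :
    (act w p).eval 0 = C (constantCoeff p) := by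
  have h : (Polynomial.evalRingHom (0 : MvPolynomial ι k)).comp (act w) = (C : k →+* MvPolynomial ι k).comp constantCoeff := by
    apply MvPolynomial.ringHom_ext
    · intro x
      rw [RingHom.comp_apply, act_C]
      simp
    · intro i
      rw [RingHom.comp_apply, act_X]
      simp [hw i]
  exact RingHom.congr_fun h p

/-- A minimal prime over an ideal generated by homogeneous elements of positive weights has no constant terms. -/
theorem minimal_le_ker (w : ι → ℕ) (hw : ∀ i, w i ≠ 0) (S : Set (MvPolynomial ι k))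
    (hS : ∀ f ∈ S, ∃ a b : ℕ, Polynomial.X ^ a * act w f = Polynomial.X ^ b * Polynomial.C f)
    (Q : Ideal (MvPolynomial ι k)) (hQ : Q ∈ (Ideal.span S).minimalPrimes) :
    Q ≤ RingHom.ker (constantCoeff (σ := ι) (R := k)) := by
  have hQp : Q.IsPrime := hQ.1.1
  have hQC : (Q.map (Polynomial.C : _ →+* Polynomial (MvPolynomial ι k))).IsPrime := Ideal.isPrime_map_C_of_isPrime
  have hX : (Polynomial.X : Polynomial (MvPolynomial ι k)) ∉ Q.map Polynomial.C := by
    intro h
    have h1 := Ideal.mem_map_C_iff.1 h 1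
    rw [Polynomial.coeff_X_one] at h1
    exact hQp.ne_top ((Ideal.eq_top_iff_one _).2 h1)
  have hp : ((Q.map (Polynomial.C : _ →+* Polynomial (MvPolynomial ι k))).comap (act w)).IsPrime := Ideal.comap_isPrime _ _
  have hle : (Q.map (Polynomial.C : _ →+* Polynomial (MvPolynomial ι k))).comap (act w) ≤ Q := by
    intro p hp
    rw [Ideal.mem_comap] at hp
    have h1 := Ideal.mem_map_of_mem (Polynomial.evalRingHom (1 : MvPolynomial ι k)) hp
    rw [Ideal.map_map, Polynomial.coe_evalRingHom, eval_one_act] at h1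
    have h2 : (Polynomial.evalRingHom (1 : MvPolynomial ι k)).comp Polynomial.C = RingHom.id _ := by
      ext x <;> simp
    rwa [h2, Ideal.map_id] at h1
  have hS' : Ideal.span S ≤ (Q.map (Polynomial.C : _ →+* Polynomial (MvPolynomial ι k))).comap (act w) := by
    rw [Ideal.span_le]
    intro f hf
    obtain ⟨a, b, hab⟩ := hS f hf
    rw [SetLike.mem_coe, Ideal.mem_comap]
    have h1 : Polynomial.X ^ a * act w f ∈ Q.map (Polynomial.C : _ →+* Polynomial (MvPolynomial ι k)) := by
      rw [hab]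
      exact Ideal.mul_mem_left _ _ (Ideal.mem_map_of_mem _ (hQ.1.2 (Ideal.subset_span hf)))
    exact (hQC.mem_or_mem h1).resolve_left fun h => hX (hQC.mem_of_pow_mem _ h)
  have heq := hQ.2 ⟨hp, hS'⟩ hle
  intro p hp'
  have h1 := heq hp'
  rw [Ideal.mem_comap, Ideal.mem_map_C_iff] at h1
  have h2 := h1 0
  rw [Polynomial.coeff_zero_eq_eval_zero, eval_zero_act w hw] at h2
  rw [RingHom.mem_ker]
  by_contra h3
  exact hQp.ne_top (Ideal.eq_top_of_isUnit_mem _ h2 ((IsUnit.mk0 _ h3).map C))

end Weight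

section Deg2

variable {k : Type u} [Field k] {n d : ℕ}

/-- The weights. -/
def wt (e n : ℕ) : Option (Fin (e + 1) × Fin (n + 1)) → ℕ
  | none => 1
  | some p => e ^ 2 + 1 - (p.1 : ℕ) ^ 2

theorem wt_spec (e n : ℕ) (j : Fin (e + 1)) (i : Fin (n + 1)) : wt e n (some (j, i)) + (j : ℕ) ^ 2 = e ^ 2 + 1 := by
  have h : (j : ℕ) ^ 2 ≤ e ^ 2 := Nat.pow_le_pow_left (Nat.lt_succ_iff.1 j.2) 2
  change e ^ 2 + 1 - (j : ℕ) ^ 2 + (j : ℕ) ^ 2 = _
  omega

theorem wt_ne (e n : ℕ) (o : Option (Fin (e + 1) × Fin (n + 1))) : wt e n o ≠ 0 := by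
  rcases o with _ | ⟨j, i⟩
  · exact one_ne_zero
  · have h : (j : ℕ) ^ 2 ≤ e ^ 2 := Nat.pow_le_pow_left (Nat.lt_succ_iff.1 j.2) 2
    have := wt_spec e n j i
    omega

theorem coeff_pol (e q : ℕ) (i : Fin (n + 1)) (m : ℕ) : (pol k n e q i).coeff m =
    if h : m < e + 1 then X (some (⟨m, h⟩, i)) * X none ^ gx q m else 0 := by
  rw [pol, Polynomial.finsetSum_coeff]
  split_ifs with h
  · rw [Finset.sum_eq_single ⟨m, h⟩]
    · rw [Polynomial.coeff_C_mul_X_pow, if_pos rfl]
    · intro j _ hj
      rw [Polynomial.coeff_C_mul_X_pow, if_neg]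
      intro h'
      exact hj (Fin.ext h'.symm)
    · intro h'
      exact absurd (Finset.mem_univ _) h'
  · refine Finset.sum_eq_zero fun j _ => ?_
    rw [Polynomial.coeff_C_mul_X_pow, if_neg]
    intro h'
    have := j.2
    omega

theorem act_Phi {G : MvPolynomial (Fin (n + 1)) k} (hG : G.IsHomogeneous d) (e q m : ℕ) :
    Polynomial.X ^ ((2 * q + 1) * m) * act (wt e n) (Phi G e q m) =
      Polynomial.X ^ ((e ^ 2 + 1 + q * (q + 1)) * d) * Polynomial.C (Phi G e q m) := by
  have h1 : act (wt e n) (Phi G e q m) = (gev (Polynomial.C.comp C) G fun i => (pol k n e q i).map (act (wt e n))).coeff m := by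
    refine (map_gev_coeff (act (wt e n)) C G (pol k n e q) m).trans ?_
    congr 2
    ext x : 1
    rw [RingHom.comp_apply, act_C]
    rfl
  have h2 : (Polynomial.C (Phi G e q m) : Polynomial (MvPolynomial (Option (Fin (e + 1) × Fin (n + 1))) k)) =
      (gev (Polynomial.C.comp C) G fun i => (pol k n e q i).map Polynomial.C).coeff m :=
    map_gev_coeff Polynomial.C C G (pol k n e q) m
  rw [h1, h2, pow_mul, pow_mul]
  refine coeff_scale _ hG _ _ _ _ ?_ m
  intro i j
  rw [Polynomial.coeff_map, Polynomial.coeff_map, coeff_pol]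
  split_ifs with h
  · rw [map_mul, map_pow, act_X, act_X, map_mul, map_pow]
    have h3 := wt_spec e n ⟨j, h⟩ i
    have h4 := gx_spec q j
    have h5 : (2 * q + 1) * j + wt e n (some (⟨j, h⟩, i)) + gx q j = e ^ 2 + 1 + q * (q + 1) := by
      simp only at h3
      omega
    have h6 : wt e n none = 1 := rfl
    rw [h6, pow_one, mul_pow, ← h5, pow_add, pow_add, pow_mul]
    ring
  · simp

/-- The trivialisation outside of `t = 0`. -/
noncomputable def kap (k : Type u) [Field k] (n e : ℕ) :
    MvPolynomial (Fin (e + 1) × Fin (n + 1)) k →+* MvPolynomial (Option (Fin (e + 1) × Fin (n + 1))) k :=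
  eval₂Hom C fun p => X none ^ ((p.1 : ℕ) ^ 2) * X (some p)

theorem kap_Phi {G : MvPolynomial (Fin (n + 1)) k} (hG : G.IsHomogeneous d) (e q m : ℕ) :
    X none ^ ((2 * q + 1) * m) * Phi G e q m = X none ^ (q * (q + 1) * d) * kap k n e (morEq G e m) := by
  have h1 : kap k n e (morEq G e m) = (gev C G fun i =>
      (∑ j : Fin (e + 1), Polynomial.C (X (j, i)) * Polynomial.X ^ (j : ℕ)).map (kap k n e)).coeff m := by
    refine (map_gev_coeff (kap k n e) C G _ m).trans ?_
    congr 2
    ext x : 1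
    rw [RingHom.comp_apply, kap, eval₂Hom_C]
  rw [h1, Phi, pow_mul, pow_mul]
  refine coeff_scale _ hG _ _ _ _ ?_ m
  intro i j
  rw [coeff_pol, Polynomial.coeff_map, Polynomial.finsetSum_coeff]
  split_ifs with h
  · rw [Finset.sum_eq_single ⟨j, h⟩]
    · rw [Polynomial.coeff_C_mul_X_pow, if_pos rfl, kap, eval₂Hom_X']
      have h4 := gx_spec q j
      have h5 : X none ^ ((2 * q + 1) * j) * X none ^ gx q j = X none ^ (q * (q + 1)) *
          (X none ^ (j ^ 2) : MvPolynomial (Option (Fin (e + 1) × Fin (n + 1))) k) := by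
        rw [← pow_add, ← pow_add]
        congr 1
        omega
      have h6 : ∀ x : MvPolynomial (Option (Fin (e + 1) × Fin (n + 1))) k,
          (X none ^ (2 * q + 1)) ^ j * (x * X none ^ gx q j) = X none ^ (q * (q + 1)) * (X none ^ (j ^ 2) * x) := by
        intro x
        rw [← pow_mul]
        linear_combination x * h5
      exact h6 _
    · intro j' _ hj
      rw [Polynomial.coeff_C_mul_X_pow, if_neg]
      intro h'
      exact hj (Fin.ext h'.symm)
    · intro h'
      exact absurd (Finset.mem_univ _) h'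
  · rw [Finset.sum_eq_zero, map_zero, mul_zero, mul_zero]
    intro j' _
    rw [Polynomial.coeff_C_mul_X_pow, if_neg]
    intro h'
    have := j'.2
    omega

theorem ev1_kap (e : ℕ) (x : MvPolynomial (Fin (e + 1) × Fin (n + 1)) k) :
    ev (1 : MvPolynomial (Fin (e + 1) × Fin (n + 1)) k) (kap k n e x) = x := by
  have h : (ev (1 : MvPolynomial (Fin (e + 1) × Fin (n + 1)) k)).toRingHom.comp (kap k n e) = RingHom.id _ := by
    apply MvPolynomial.ringHom_ext
    · intro x
      rw [RingHom.comp_apply, kap, eval₂Hom_C]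
      simp
    · intro i
      rw [RingHom.comp_apply, kap, eval₂Hom_X']
      simp
  exact RingHom.congr_fun h x

/-- The parameter space of rational curves of degree `e` on the cone `G = 0` is irreducible of the expected dimension. -/
theorem main [IsAlgClosed k] {G : MvPolynomial (Fin (n + 1)) k} {δ : ℕ} (hG : Good G d δ) (hd : 1 ≤ d)
    (h2d : 2 * d ≤ n + 1) (e : ℕ) : (morI G e).radical.IsPrime ∧
      ringKrullDim (MvPolynomial (Fin (e + 1) × Fin (n + 1)) k ⧸ (morI G e).radical) = (n + e * δ : ℕ) := by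
  obtain ⟨P₀, hP₀, -⟩ := chain hG hd h2d e
  obtain ⟨P, hP, hPP₀, htP⟩ := degenerate hP₀ (degI G d e) (gen_degI G hG.sum e) (map_degI hG.hom hd e) (by
    intro Q hQ
    refine minimal_le_ker (wt e n) (wt_ne e n) _ ?_ Q hQ
    rintro _ ⟨_ | ⟨q, r⟩, rfl⟩
    · exact ⟨_, _, act_Phi hG.hom e 0 0⟩
    · exact ⟨_, _, act_Phi hG.hom e q (d * q + r + 1)⟩)
  have hPp := hP.prime
  obtain ⟨h1, h2, h3⟩ := general hP hP₀.prime hPP₀ (kap k n e) (ev1_kap e) (morI G e) (gen_morI hG.hom hG.sum e) (by
    intro f hf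
    rw [← Ideal.mem_comap]
    refine (Ideal.span_le.2 ?_) hf
    rintro _ ⟨m, rfl⟩
    rw [SetLike.mem_coe, Ideal.mem_comap]
    have key : ∀ q, Phi G e q m ∈ P → kap k n e (morEq G e m) ∈ P := by
      intro q hq
      have h4 := Ideal.mul_mem_left P (X none ^ ((2 * q + 1) * m)) hq
      rw [kap_Phi hG.hom] at h4
      exact (hPp.mem_or_mem h4).resolve_left fun h => htP (hPp.mem_of_pow_mem _ h)
    rcases m with _ | m
    · exact key 0 (hP.le (Ideal.subset_span ⟨none, rfl⟩))
    · by_cases hm : m + 1 ≤ d * e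
      · have hq : m / d < e := by
          rw [Nat.div_lt_iff_lt_mul hd, mul_comm]
          omega
        have hr : m % d < d := Nat.mod_lt _ hd
        refine key (m / d) (hP.le (Ideal.subset_span ⟨some (⟨m / d, hq⟩, ⟨m % d, hr⟩), ?_⟩))
        change Phi G e (m / d) (d * (m / d) + m % d + 1) = _
        rw [Nat.div_add_mod]
      · rw [morEq_of_lt hG.hom e _ (by omega), map_zero]
        exact Ideal.zero_mem _) (by
    intro f hf
    rw [← Ideal.mem_comap]
    refine (Ideal.span_le.2 ?_) hf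
    rintro _ ⟨_ | ⟨q, r⟩, rfl⟩
    · change ev (1 : MvPolynomial (Fin (e + 1) × Fin (n + 1)) k) (Phi G e 0 0) ∈ morI G e
      rw [ev1_Phi]
      exact Ideal.subset_span ⟨_, rfl⟩
    · change ev (1 : MvPolynomial (Fin (e + 1) × Fin (n + 1)) k) (Phi G e q (d * q + r + 1)) ∈ morI G e
      rw [ev1_Phi]
      exact Ideal.subset_span ⟨_, rfl⟩)
  rw [← h2]
  exact ⟨h1, h3⟩

end Deg2

end K791
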