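import Groth.Agent.Fano.K505.KonDef
import Groth.Agent.Fano.K393.ObjChart

/-!
# Density of the honest maps in a chart of the stack of stable maps

* `exists_cls`: a point of the base of a universal family `Un` over which the curve is smooth is equivalent to a point of the base of
  the honest chart `U0`, as soon as all stable maps from smooth curves over algebraically closed fields have a datum for `U0`;
* `dense_of`: hence the set of these points is dense.
-/

set_option autoImplicit false
set_option backward.isDefEq.respectTransparency false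
set_option backward.isDefEq.respectTransparency.types false

universe u

open CategoryTheory CategoryTheory.Limits AlgebraicGeometry

namespace K791.Dense

open K505.KonDef K393.ObjChart

variable {k : Type u} [Field k] {r m m' n d e : ℕ} {G : LefPen.Form n k d}

/-- A family over a geometric point above a given point of the base. -/
theorem exists_geometric (h𝒳 : FibCat.IsFibGrpd (Mst G r e).p) (A : (Mst G r e).obj) (v : A.obj.base.left) :
    ∃ (Ω : Type u) (_ : Field Ω) (_ : IsAlgClosed Ω) (q : Spec (CommRingCat.of Ω) ⟶ Spec (CommRingCat.of k))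
      (Y : (Mst G r e).obj) (_ : Y.obj.base = Over.mk q) (α : Y ⟶ A), ∀ z, ((Mst G r e).p.map α).left z = v := by
  let Ω := AlgebraicClosure (A.obj.base.left.residueField v)
  let x : Spec (CommRingCat.of Ω) ⟶ A.obj.base.left :=
    Spec.map (CommRingCat.ofHom (algebraMap (A.obj.base.left.residueField v) Ω)) ≫ A.obj.base.left.fromSpecResidueField v
  have hx : ∀ z, x z = v := fun z => by
    rw [Scheme.Hom.comp_apply]
    exact Scheme.fromSpecResidueField_apply _ _
  let f : Over.mk (x ≫ A.obj.base.hom) ⟶ (Mst G r e).p.obj A := Over.homMk x rfl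
  obtain ⟨Y, α, hα⟩ := h𝒳.exists_lift f
  refine ⟨Ω, inferInstance, inferInstance, x ≫ A.obj.base.hom, Y, IsHomLift.domain_eq (Mst G r e).p f α, α, ?_⟩
  intro z
  rw [IsHomLift.fac' (Mst G r e).p f α, eqToHom_refl, Category.comp_id, Over.comp_left, Scheme.Hom.comp_apply]
  exact hx _

variable {c : CrvChart k (r + m)} {ℓ : LinChart c G e} {c' : CrvChart k (r + m')} {ℓ' : LinChart c' G e}

/-- A point of the base of `Un` over which the curve is smooth is equivalent to a point of the base of `U0`. -/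
theorem exists_cls (h𝒳 : FibCat.IsFibGrpd (Mst G r e).p) (Un : Univ ℓ) (U0 : Univ ℓ') (W : Set c.U.left)
    (hW : ∀ (Ω : Type u) [Field Ω] [IsAlgClosed Ω] {C' T : Scheme.{u}} (a : C' ⟶ c.C) (f' : C' ⟶ T)
      (t : T ⟶ c.U.left), IsPullback a f' c.f t → Set.range t ⊆ W → Smooth f')
    (hS : ∀ {Ω : Type u} [Field Ω] [IsAlgClosed Ω] (q : Spec (CommRingCat.of Ω) ⟶ Spec (CommRingCat.of k))
      (Y : (Mst G r e).obj), Y.obj.base = Over.mk q → Smooth Y.obj.f → Nonempty (Datum ℓ' Y.obj))
    (v : Un.A.obj.base.left) (hv : Un.D.h.base.left v ∈ W) :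
    ∃ b : ((Mst G r e).p.obj U0.A).left, cls h𝒳 U0.A b = cls h𝒳 Un.A v := by
  obtain ⟨Ω, _, _, q, Y, hY, α, hα⟩ := exists_geometric h𝒳 Un.A v
  have hsm : Smooth Y.obj.f := by
    refine hW Ω _ _ _ (α.hom.hom.cart.paste_horiz Un.D.h.cart) ?_
    rintro _ ⟨z, rfl⟩
    have h1 : α.hom.hom.base.left z = v := hα z
    rw [Scheme.Hom.comp_apply, h1]
    exact hv
  obtain ⟨D'⟩ := hS q Y hY hsm
  obtain ⟨g, -, -⟩ := U0.univ Y D'
  have hne : Nonempty ((Mst G r e).p.obj Y).left := by
    change Nonempty Y.obj.base.left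
    rw [hY]
    exact inferInstanceAs (Nonempty (PrimeSpectrum Ω))
  obtain ⟨z⟩ := hne
  refine ⟨((Mst G r e).p.map g).left z, ?_⟩
  rw [cls_map, ← hα z, cls_map]

/-- The points equivalent to honest maps are dense. -/
theorem dense_of (h𝒳 : FibCat.IsFibGrpd (Mst G r e).p) (Un : Univ ℓ) (U0 : Univ ℓ') (W : Set c.U.left)
    (hd : Dense (Un.D.h.base.left ⁻¹' W))
    (hW : ∀ (Ω : Type u) [Field Ω] [IsAlgClosed Ω] {C' T : Scheme.{u}} (a : C' ⟶ c.C) (f' : C' ⟶ T)
      (t : T ⟶ c.U.left), IsPullback a f' c.f t → Set.range t ⊆ W → Smooth f')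
    (hS : ∀ {Ω : Type u} [Field Ω] [IsAlgClosed Ω] (q : Spec (CommRingCat.of Ω) ⟶ Spec (CommRingCat.of k))
      (Y : (Mst G r e).obj), Y.obj.base = Over.mk q → Smooth Y.obj.f → Nonempty (Datum ℓ' Y.obj)) :
    Dense {v : ((Mst G r e).p.obj Un.A).left | ∃ b : ((Mst G r e).p.obj U0.A).left, cls h𝒳 U0.A b = cls h𝒳 Un.A v} :=
  Dense.mono (fun v hv => exists_cls h𝒳 Un U0 W hW hS v hv) hd

end K791.Dense
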