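import Groth.Agent.Fano.K714.DimMv

/-!
# Dimension of a closed subset of a product of affine spaces, from a fibre over a point

`dim_le`: `Q` a prime of `k[σ ⊕ τ]`, `(v, w)` a zero of `Q`, `p = Q ∩ k[σ]`; then
`dim k[σ ⊕ τ]/Q ≤ dim k[σ]/p + dim k[τ]/Q(v, ·)`.
-/

set_option autoImplicit false

namespace K791.Fib

open MvPolynomial Groth.Agent.CalgC.DimFT K714.DimMv

variable {k : Type*} [Field k]

/-- The ideal of the point `x`. -/
theorem isMaximal_ker_eval {ι : Type*} (x : ι → k) : (RingHom.ker (eval x : MvPolynomial ι k →+* k)).IsMaximal :=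
  RingHom.ker_isMaximal_of_surjective _ fun a => ⟨C a, eval_C a⟩

theorem height_maximal {ι : Type*} [Finite ι] (P : Ideal (MvPolynomial ι k)) [P.IsPrime] (d : ℕ)
    (hd : ringKrullDim (MvPolynomial ι k ⧸ P) = d) (m : Ideal (MvPolynomial ι k ⧸ P)) (hm : m.IsMaximal) :
    m.height = d := by
  obtain ⟨e, h1, -, h3⟩ := exists_dim k (MvPolynomial ι k ⧸ P)
  rw [h3 m hm]
  rw [h1] at hd
  exact_mod_cast hd

theorem height_le {A B : Type*} [CommRing A] [CommRing B] [Algebra A B] [IsNoetherianRing A]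
    [IsNoetherianRing B] (m : Ideal A)
    [m.IsPrime] (M : Ideal B) [hM : M.IsMaximal] [M.LiesOver m] (t : ℕ)
    (ht : ringKrullDim (B ⧸ m.map (algebraMap A B)) ≤ t) : M.height ≤ m.height + t := by
  refine (Ideal.height_le_height_add_of_liesOver m M).trans ?_
  gcongr
  have hker : m.map (algebraMap A B) ≤ M := Ideal.map_le_iff_le_comap.2 (Ideal.LiesOver.over (P := M) (p := m)).le
  have h1 : (M.map (Ideal.Quotient.mk (m.map (algebraMap A B)))).IsMaximal := by
    refine (Ideal.map_eq_top_or_isMaximal_of_surjective _ Ideal.Quotient.mk_surjective hM).resolve_left ?_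
    intro h
    have h2 : (M.map (Ideal.Quotient.mk (m.map (algebraMap A B)))).comap (Ideal.Quotient.mk _) = M := by
      rw [Ideal.comap_map_of_surjective _ Ideal.Quotient.mk_surjective, sup_eq_left]
      intro x hx
      apply hker
      rw [Ideal.mem_comap, Ideal.mem_bot] at hx
      exact Ideal.Quotient.eq_zero_iff_mem.1 hx
    rw [h, Ideal.comap_top] at h2
    exact hM.ne_top h2.symm
  have h2 := h1.isPrime
  have h3 := (Ideal.height_le_ringKrullDim_of_isPrime
    (I := M.map (Ideal.Quotient.mk (m.map (algebraMap A B))))).trans ht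
  exact_mod_cast h3

theorem dim_quot_le {A B T : Type*} [CommRing A] [CommRing B] [CommRing T] [Algebra A B] (m : Ideal A)
    (g : T →+* B) (J : Ideal T) (h1 : ∀ y : B, ∃ t : T, y - g t ∈ m.map (algebraMap A B))
    (h2 : ∀ x ∈ J, g x ∈ m.map (algebraMap A B)) :
    ringKrullDim (B ⧸ m.map (algebraMap A B)) ≤ ringKrullDim (T ⧸ J) := by
  refine ringKrullDim_le_of_surjective (Ideal.Quotient.lift J
    ((Ideal.Quotient.mk (m.map (algebraMap A B))).comp g) fun x hx => ?_)
    (Ideal.Quotient.lift_surjective_of_surjective _ _ ?_)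
  · rw [RingHom.comp_apply, Ideal.Quotient.eq_zero_iff_mem]
    exact h2 x hx
  · intro y
    obtain ⟨y, rfl⟩ := Ideal.Quotient.mk_surjective y
    obtain ⟨t, ht⟩ := h1 y
    exact ⟨t, (Ideal.Quotient.eq.2 ht).symm⟩

theorem dim_le {σ τ : Type*} [Finite σ] [Finite τ] (Q : Ideal (MvPolynomial (σ ⊕ τ) k)) [Q.IsPrime] (v : σ → k)
    (w : τ → k) (hvw : ∀ p ∈ Q, eval (Sum.elim v w) p = 0) (t : ℕ)
    (ht : ringKrullDim (MvPolynomial τ k ⧸ Q.map (slice (τ := τ) v)) ≤ t) :
    ringKrullDim (MvPolynomial (σ ⊕ τ) k ⧸ Q) ≤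
      ringKrullDim (MvPolynomial σ k ⧸ Q.comap (rename (R := k) (Sum.inl : σ → σ ⊕ τ))) + t := by
  let q : Ideal (MvPolynomial σ k) := Q.comap (rename (R := k) (Sum.inl : σ → σ ⊕ τ))
  have hqp : q.IsPrime := Ideal.comap_isPrime _ _
  let A := MvPolynomial σ k ⧸ q
  let B := MvPolynomial (σ ⊕ τ) k ⧸ Q
  let f : A →+* B := Ideal.quotientMap Q (rename (R := k) (Sum.inl : σ → σ ⊕ τ)).toRingHom le_rfl
  letI : Algebra A B := f.toAlgebra
  obtain ⟨a, -, ha, -⟩ := exists_nat_dim q
  obtain ⟨b, -, hb, -⟩ := exists_nat_dim Q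
  have hMx := isMaximal_ker_eval (k := k) (Sum.elim v w)
  have hQM : Q ≤ RingHom.ker (eval (Sum.elim v w) : MvPolynomial (σ ⊕ τ) k →+* k) := fun p hp => hvw p hp
  let M : Ideal B := (RingHom.ker (eval (Sum.elim v w) : MvPolynomial (σ ⊕ τ) k →+* k)).map (Ideal.Quotient.mk Q)
  have hMcomap : M.comap (Ideal.Quotient.mk Q) = RingHom.ker (eval (Sum.elim v w) : MvPolynomial (σ ⊕ τ) k →+* k) := by
    rw [Ideal.comap_map_of_surjective _ Ideal.Quotient.mk_surjective, sup_eq_left]
    intro x hx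
    apply hQM
    rw [Ideal.mem_comap, Ideal.mem_bot] at hx
    exact Ideal.Quotient.eq_zero_iff_mem.1 hx
  have hM : M.IsMaximal := by
    have h1 : M ≠ ⊤ := by
      intro h
      rw [h, Ideal.comap_top] at hMcomap
      exact hMx.ne_top hMcomap.symm
    exact (Ideal.map_eq_top_or_isMaximal_of_surjective _ Ideal.Quotient.mk_surjective hMx).resolve_left h1
  let m : Ideal A := M.comap f
  have hmm : m.comap (Ideal.Quotient.mk q) = RingHom.ker (eval v : MvPolynomial σ k →+* k) := by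
    ext p
    rw [Ideal.mem_comap, Ideal.mem_comap]
    change (Ideal.Quotient.mk Q) (rename Sum.inl p) ∈ M ↔ _
    rw [← Ideal.mem_comap, hMcomap, RingHom.mem_ker, RingHom.mem_ker, eval_rename]
    rfl
  have hmMax : m.IsMaximal := by
    have h1 := isMaximal_ker_eval (k := k) v
    rw [← hmm] at h1
    have h2 : m = (m.comap (Ideal.Quotient.mk q)).map (Ideal.Quotient.mk q) :=
      (Ideal.map_comap_of_surjective _ Ideal.Quotient.mk_surjective _).symm
    rw [h2]
    refine (Ideal.map_eq_top_or_isMaximal_of_surjective _ Ideal.Quotient.mk_surjective h1).resolve_left ?_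
    rw [← h2]
    intro h3
    rw [h3, Ideal.comap_top] at h1
    exact h1.ne_top rfl
  have hmP : m.IsPrime := hmMax.isPrime
  have hMP : M.IsPrime := hM.isPrime
  have hover : M.LiesOver m := ⟨rfl⟩
  have hNoeth : IsNoetherianRing B := inferInstance
  have hspan : ∀ x ∈ Ideal.span (Set.range fun i : σ => (X (Sum.inl i) : MvPolynomial (σ ⊕ τ) k) - C (v i)),
      Ideal.Quotient.mk Q x ∈ m.map (algebraMap A B) := by
    intro x hx
    rw [← Ideal.mem_comap]
    refine (Ideal.span_le.2 ?_) hx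
    rintro _ ⟨i, rfl⟩
    rw [SetLike.mem_coe, Ideal.mem_comap]
    have h4 : (Ideal.Quotient.mk Q) (X (Sum.inl i) - C (v i)) = algebraMap A B (Ideal.Quotient.mk q (X i - C (v i))) := by
      have e : rename (R := k) (Sum.inl : σ → σ ⊕ τ) (X i - C (v i)) = X (Sum.inl i) - C (v i) := by
        rw [map_sub, rename_X, rename_C]
      change _ = (Ideal.Quotient.mk Q) (rename Sum.inl (X i - C (v i)))
      rw [e]
    rw [h4]
    refine Ideal.mem_map_of_mem _ ?_
    rw [← Ideal.mem_comap, hmm, RingHom.mem_ker]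
    simp
  have h3 : ringKrullDim (B ⧸ m.map (algebraMap A B)) ≤ ringKrullDim (MvPolynomial τ k ⧸ Q.map (slice (τ := τ) v)) := by
    refine dim_quot_le m ((Ideal.Quotient.mk Q).comp (rename (R := k) (Sum.inr : τ → σ ⊕ τ)).toRingHom) _ ?_ ?_
    · intro y
      obtain ⟨p, rfl⟩ := Ideal.Quotient.mk_surjective y
      refine ⟨slice v p, ?_⟩
      have h5 := hspan _ (sub_mem_span v p)
      rwa [map_sub] at h5
    · intro x hx
      rw [← Ideal.mem_comap]
      refine (Ideal.map_le_iff_le_comap.2 ?_) hx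
      intro p hp
      have h5 := hspan _ (sub_mem_span v p)
      rw [map_sub, Ideal.Quotient.eq_zero_iff_mem.2 hp, zero_sub, neg_mem_iff] at h5
      exact h5
  have h6 := height_le m M t (h3.trans ht)
  rw [height_maximal Q b hb M hM, height_maximal q a ha m hmMax] at h6
  have e1 : ringKrullDim (MvPolynomial (σ ⊕ τ) k ⧸ Q) = b := hb
  rw [e1]
  change ((b : ℕ) : WithBot ℕ∞) ≤ ringKrullDim (MvPolynomial σ k ⧸ q) + t
  rw [ha]
  exact_mod_cast h6

end K791.Fib
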