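import Groth.Agent.Fano.K239.HonDef
import Groth.Agent.Fano.K791.MorIrr

/-!
# The ring of maps from the projective line: comparison with `K791.morI`

* `irreducibleSpace_HR`, `ringKrullDim_HR`: the ring `MvPolynomial (Fin (n + 1) × Fin (e + 1)) k ⧸ (honP)` of the rational curves of
  degree `e` on the cone of a good form has an irreducible spectrum of dimension `n + e (n + 1 - d)`.
-/

set_option autoImplicit false

universe u

namespace K791.HonRing

open MvPolynomial K239.HonDef

variable {k : Type u} [Field k] {n d e : ℕ}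

/-- Exchanging the indices. -/
noncomputable def sw (k : Type u) [Field k] (n e : ℕ) :
    MvPolynomial (Fin (n + 1) × Fin (e + 1)) k ≃ₐ[k] MvPolynomial (Fin (e + 1) × Fin (n + 1)) k :=
  renameEquiv k (Equiv.prodComm _ _)

theorem sw_honP (G : MvPolynomial (Fin (n + 1)) k) (m : Fin (d * e + 1)) :
    sw k n e (honP (algebraMap k k) G d e m) = morEq G e m := by
  have h := map_gev_coeff ((sw k n e).toRingEquiv.toRingHom) C G (genPt k n e) (m : ℕ)
  have h1 : honP (algebraMap k k) G d e m = (Line.gev C G (genPt k n e)).coeff m := by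
    rw [honP, Line.gev]
    rfl
  rw [h1]
  refine h.trans ?_
  rw [morEq, Line.crv]
  congr 2
  · ext x
    simp [sw]
  · funext i
    rw [genPt, Polynomial.map_sum]
    refine Finset.sum_congr rfl fun j _ => ?_
    rw [Polynomial.map_mul, Polynomial.map_C, Polynomial.map_pow, Polynomial.map_X]
    congr 2
    simp [sw]

theorem map_sw {G : MvPolynomial (Fin (n + 1)) k} (hG : G.IsHomogeneous d) :
    (Ideal.span (Set.range (honP (algebraMap k k) G d e))).map (sw k n e) = morI G e := by
  rw [Ideal.map_span, morI]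
  refine le_antisymm (Ideal.span_mono ?_) ?_
  · rintro _ ⟨_, ⟨m, rfl⟩, rfl⟩
    exact ⟨m, (sw_honP G m).symm⟩
  · rw [Ideal.span_le]
    rintro _ ⟨m, rfl⟩
    by_cases hm : m < d * e + 1
    · exact Ideal.subset_span ⟨_, ⟨⟨m, hm⟩, rfl⟩, sw_honP G ⟨m, hm⟩⟩
    · rw [SetLike.mem_coe, morEq_of_lt hG e m (by omega)]
      exact Ideal.zero_mem _

/-- The ring of the rational curves on the cone. -/
noncomputable def eqv {G : MvPolynomial (Fin (n + 1)) k} (hG : G.IsHomogeneous d) :
    (MvPolynomial (Fin (n + 1) × Fin (e + 1)) k ⧸ Ideal.span (Set.range (honP (algebraMap k k) G d e))) ≃+*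
      (MvPolynomial (Fin (e + 1) × Fin (n + 1)) k ⧸ morI G e) :=
  Ideal.quotientEquiv _ _ (sw k n e).toRingEquiv (map_sw hG).symm

theorem dim_radical {R : Type*} [CommRing R] (I : Ideal R) : ringKrullDim (R ⧸ I.radical) = ringKrullDim (R ⧸ I) := by
  rw [ringKrullDim_quotient, ringKrullDim_quotient, PrimeSpectrum.zeroLocus_radical]

theorem irreducible_of_radical {R : Type*} [CommRing R] (I : Ideal R) (h : I.radical.IsPrime) :
    IrreducibleSpace (PrimeSpectrum (R ⧸ I)) := by
  rw [PrimeSpectrum.irreducibleSpace_iff_isPrime_nilradical]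
  have h1 : nilradical (R ⧸ I) = I.radical.map (Ideal.Quotient.mk I) := by
    have h2 : (nilradical (R ⧸ I)).comap (Ideal.Quotient.mk I) = I.radical := by
      rw [nilradical, Ideal.comap_radical, Ideal.zero_eq_bot, ← RingHom.ker_eq_comap_bot, Ideal.mk_ker]
    rw [← h2, Ideal.map_comap_of_surjective _ Ideal.Quotient.mk_surjective]
  rw [h1]
  exact Ideal.map_isPrime_of_surjective Ideal.Quotient.mk_surjective (by rw [Ideal.mk_ker]; exact Ideal.le_radical)

theorem irreducibleSpace_of_surjective {X Y : Type*} [TopologicalSpace X] [TopologicalSpace Y] [IrreducibleSpace X]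
    (f : X → Y) (hf : Continuous f) (hs : Function.Surjective f) : IrreducibleSpace Y := by
  rw [irreducibleSpace_def]
  have h := (IrreducibleSpace.isIrreducible_univ X).image f hf.continuousOn
  rwa [Set.image_univ, hs.range_eq] at h

variable [IsAlgClosed k]

theorem irreducibleSpace_HR {G : MvPolynomial (Fin (n + 1)) k} {δ : ℕ} (hG : Good G d δ) (hd : 1 ≤ d)
    (h2d : 2 * d ≤ n + 1) (e : ℕ) : IrreducibleSpace (PrimeSpectrum
      (MvPolynomial (Fin (n + 1) × Fin (e + 1)) k ⧸ Ideal.span (Set.range (honP (algebraMap k k) G d e)))) := by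
  have h1 := irreducible_of_radical _ (main hG hd h2d e).1
  exact irreducibleSpace_of_surjective _ (PrimeSpectrum.homeomorphOfRingEquiv (eqv (e := e) hG.hom)).symm.continuous
    (PrimeSpectrum.homeomorphOfRingEquiv (eqv (e := e) hG.hom)).symm.surjective

theorem ringKrullDim_HR {G : MvPolynomial (Fin (n + 1)) k} {δ : ℕ} (hG : Good G d δ) (hd : 1 ≤ d)
    (h2d : 2 * d ≤ n + 1) (e : ℕ) : ringKrullDim
      (MvPolynomial (Fin (n + 1) × Fin (e + 1)) k ⧸ Ideal.span (Set.range (honP (algebraMap k k) G d e))) =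
        ((n + e * δ : ℕ) : WithBot ℕ∞) := by
  rw [ringKrullDim_eq_of_ringEquiv (eqv (e := e) hG.hom), ← dim_radical, (main hG hd h2d e).2]

end K791.HonRing
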