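import Groth.Agent.Fano.K239.HonDef2
import Groth.Agent.Fano.K791.HonRing
import Mathlib.RingTheory.AlgebraicIndependent.TranscendenceBasis
import Mathlib.RingTheory.AlgebraicIndependent.Transcendental

/-!
# The base of the chart of maps from the projective line

* `isDomain_QR`, `ringKrullDim_QR`: `QR k r` is a domain of dimension `r`;
* `rvEquiv`: the ring `RV` of the linear chart `l0` is the ring of maps over `QR k r`;
* `irreducibleSpace_base`, `topologicalKrullDim_base_le`: the base of a universal family for `l0`.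
-/

set_option autoImplicit false

universe u

open CategoryTheory CategoryTheory.Limits AlgebraicGeometry

namespace K791.HonBase

open K188.LineDef K505.KonDef K239.HonDef Groth.Agent.CalgC.DimFT

section QRing

variable (k : Type u) [Field k] (r : ℕ)

theorem disc_ne_zero : disc k r ≠ 0 := by
  rw [disc]
  refine mul_ne_zero (Finset.prod_ne_zero_iff.2 fun i _ => mul_ne_zero (MvPolynomial.X_ne_zero i) ?_)
    (Finset.prod_ne_zero_iff.2 fun p hp => ?_)
  · intro h
    have h1 := congrArg (MvPolynomial.eval (0 : Fin r → k)) h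
    simp at h1
  · rw [Finset.mem_filter] at hp
    intro h
    have h1 := congrArg (MvPolynomial.eval (Pi.single p.1 (1 : k))) h
    rw [map_sub, MvPolynomial.eval_X, MvPolynomial.eval_X, Pi.single_eq_same, Pi.single_eq_of_ne hp.2.symm,
      map_zero, sub_zero] at h1
    exact one_ne_zero h1

theorem powers_le : Submonoid.powers (disc k r) ≤ nonZeroDivisors (MvPolynomial (Fin r) k) :=
  powers_le_nonZeroDivisors_of_noZeroDivisors (disc_ne_zero k r)

instance isDomain_QR : IsDomain (QR k r) := IsLocalization.isDomain_of_le_nonZeroDivisors _ (powers_le k r)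

instance finiteType_QR : Algebra.FiniteType k (QR k r) :=
  Algebra.FiniteType.trans (inferInstanceAs (Algebra.FiniteType k (MvPolynomial (Fin r) k)))
    (IsLocalization.finiteType_of_monoid_fg (Submonoid.powers (disc k r)) _)

theorem ringKrullDim_QR : ringKrullDim (QR k r) = (r : WithBot ℕ∞) := by
  obtain ⟨a, ha, ha', -⟩ := exists_dim k (QR k r)
  obtain ⟨b, hb, hb', -⟩ := exists_dim k (MvPolynomial (Fin r) k)
  rw [ringKrullDim_mvPolynomial_fin] at hb
  have hbr : r = b := by exact_mod_cast hb
  have hinj : Function.Injective (algebraMap (MvPolynomial (Fin r) k) (QR k r)) :=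
    IsLocalization.injective _ (powers_le k r)
  have hf : FaithfulSMul (MvPolynomial (Fin r) k) (QR k r) := (faithfulSMul_iff_algebraMap_injective _ _).2 hinj
  have h1 := trdeg_add_eq k (MvPolynomial (Fin r) k) (A := QR k r)
  have h2 : Algebra.trdeg (MvPolynomial (Fin r) k) (QR k r) = 0 :=
    trdeg_eq_zero_iff.2 (IsLocalization.isAlgebraic _ (Submonoid.powers (disc k r)))
  rw [h2, add_zero, hb', ha'] at h1
  have h3 : b = a := by exact_mod_cast h1
  rw [ha, hbr, h3]

end QRing

section Rings

variable {k : Type u} [Field k] {n e : ℕ} (G : MvPolynomial (Fin (n + 1)) k) (d : ℕ)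

theorem map_honP {R R' : Type u} [CommRing R] [CommRing R'] (θ : R →+* R') (φ : k →+* R) (m : Fin (d * e + 1)) :
    MvPolynomial.map θ (honP φ G d e m) = honP (θ.comp φ) G d e m := by
  have h := map_gev_coeff (MvPolynomial.map θ) (MvPolynomial.C.comp φ) G (genPt R n e) (m : ℕ)
  have h1 : honP φ G d e m = (Line.gev (MvPolynomial.C.comp φ) G (genPt R n e)).coeff m := rfl
  have h2 : honP (θ.comp φ) G d e m = (Line.gev (MvPolynomial.C.comp (θ.comp φ)) G (genPt R' n e)).coeff m := rfl
  rw [h1, h2]
  refine h.trans ?_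
  congr 2
  · ext x
    simp
  · funext i
    rw [genPt, genPt, Polynomial.map_sum]
    refine Finset.sum_congr rfl fun j _ => ?_
    rw [Polynomial.map_mul, Polynomial.map_C, Polynomial.map_pow, Polynomial.map_X, MvPolynomial.map_X]

/-- Change of the ring of coefficients along an isomorphism. -/
noncomputable def hrEquiv {R R' : Type u} [CommRing R] [CommRing R'] (θ : R ≃+* R') (φ : k →+* R) (φ' : k →+* R')
    (h : (θ : R →+* R').comp φ = φ') :
    (MvPolynomial (Fin (n + 1) × Fin (e + 1)) R ⧸ Ideal.span (Set.range (honP φ G d e))) ≃+*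
      (MvPolynomial (Fin (n + 1) × Fin (e + 1)) R' ⧸ Ideal.span (Set.range (honP φ' G d e))) :=
  Ideal.quotientEquiv _ _ (MvPolynomial.mapEquiv _ θ) (by
    rw [Ideal.map_span, ← Set.range_comp]
    congr 2
    funext m
    rw [← h]
    exact (map_honP G d (θ : R →+* R') φ m).symm)

end Rings

section Base

variable {k : Type u} [Field k] {r n d e : ℕ} {G : LefPen.Form n k d}
variable {hi : IsPre (B0 k r)} {hp : ProdB0 k r} (o : Oe G (QO k r).hom e) (ho : OeStab o)

/-- The functions on the spectrum of `QR k r`. -/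
noncomputable def gam (k : Type u) [Field k] (r : ℕ) : Γ((QO k r).left, ⊤) ≃+* QR k r :=
  (Scheme.ΓSpecIso (CommRingCat.of (QR k r))).commRingCatIsoToRingEquiv

theorem gam_kmap : ((gam k r : Γ((QO k r).left, ⊤) ≃+* QR k r) : Γ((QO k r).left, ⊤) →+* QR k r).comp (kmap (QO k r).hom) =
    algebraMap k (QR k r) := by
  have h := Scheme.ΓSpecIso_naturality (CommRingCat.ofHom (algebraMap k (QR k r)))
  ext x
  have h1 := congrArg (fun f => f.hom ((Scheme.ΓSpecIso (CommRingCat.of k)).inv.hom x)) h
  simp only [CommRingCat.hom_comp, RingHom.comp_apply, CommRingCat.hom_ofHom] at h1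
  have h2 : (Scheme.ΓSpecIso (CommRingCat.of k)).hom.hom ((Scheme.ΓSpecIso (CommRingCat.of k)).inv.hom x) = x := by
    have := congrArg (fun f => f.hom x) (Scheme.ΓSpecIso (CommRingCat.of k)).inv_hom_id
    exact this
  rw [h2] at h1
  exact h1

/-- The ring `RV` of the chart `l0` is the ring of maps over `QR k r`. -/
noncomputable def rvEquiv : (l0 (hi := hi) (hp := hp) o ho).RV ≃+*
    (MvPolynomial (Fin (n + 1) × Fin (e + 1)) (QR k r) ⧸
      Ideal.span (Set.range (honP (algebraMap k (QR k r)) G.1 d e))) :=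
  hrEquiv G.1 d (gam k r) (kmap (QO k r).hom) (algebraMap k (QR k r)) gam_kmap

/-- The base of a universal family is irreducible. -/
theorem irreducibleSpace_base (Un : Univ (l0 (hi := hi) (hp := hp) o ho)) [Nonempty Un.A.obj.base.left]
    (h : IrreducibleSpace (PrimeSpectrum (MvPolynomial (Fin (n + 1) × Fin (e + 1)) (QR k r) ⧸
      Ideal.span (Set.range (honP (algebraMap k (QR k r)) G.1 d e))))) : IrreducibleSpace Un.A.obj.base.left := by
  have h1 : IrreducibleSpace (PrimeSpectrum (l0 (hi := hi) (hp := hp) o ho).RV) :=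
    K791.HonRing.irreducibleSpace_of_surjective _ (PrimeSpectrum.homeomorphOfRingEquiv (rvEquiv o ho)).symm.continuous
      (PrimeSpectrum.homeomorphOfRingEquiv (rvEquiv o ho)).symm.surjective
  have hj := Un.isOpenImmersion
  have h1' : IrreducibleSpace (Spec (CommRingCat.of (l0 (hi := hi) (hp := hp) o ho).RV)) := h1
  have h2 := (IrreducibleSpace.isIrreducible_univ (Spec (CommRingCat.of (l0 (hi := hi) (hp := hp) o ho).RV))).2.preimage
    Un.j.isOpenEmbedding
  rw [Set.preimage_univ] at h2
  exact (irreducibleSpace_def _).2 ⟨Set.univ_nonempty, h2⟩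

theorem topologicalKrullDim_base_le (Un : Univ (l0 (hi := hi) (hp := hp) o ho)) :
    topologicalKrullDim Un.A.obj.base.left ≤ ringKrullDim (MvPolynomial (Fin (n + 1) × Fin (e + 1)) (QR k r) ⧸
      Ideal.span (Set.range (honP (algebraMap k (QR k r)) G.1 d e))) := by
  have hj := Un.isOpenImmersion
  refine Un.j.isOpenEmbedding.isInducing.topologicalKrullDim_le.trans ?_
  rw [← ringKrullDim_eq_of_ringEquiv (rvEquiv (hi := hi) (hp := hp) o ho)]
  exact (PrimeSpectrum.topologicalKrullDim_eq_ringKrullDim _).le

end Base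

end K791.HonBase
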