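import Groth.Agent.Fano.K791.Fib

/-!
# Irreducible, generically reduced closed subschemes of affine space with few equations

`IG I P D`: the closed subscheme `V(I)` of affine space is irreducible of dimension `D`, generically reduced, with generic
point `P`, and `I` is generated by at most `card σ - D` polynomials.
-/

set_option autoImplicit false

namespace K791

open MvPolynomial K714.DimMv

variable {k : Type*} [Field k]

/-- The ideal `I` is generated by at most `card σ - D` elements. -/
def Gen {σ : Type*} (I : Ideal (MvPolynomial σ k)) (D : ℕ) : Prop :=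
  ∃ s : Finset (MvPolynomial σ k), Ideal.span (s : Set (MvPolynomial σ k)) = I ∧ s.card + D ≤ Nat.card σ

/-- The scheme `V(I)` is irreducible of dimension `D` with generic point `P`, generically reduced, and defined by at most
`card σ - D` equations. -/
structure IG {σ : Type*} (I P : Ideal (MvPolynomial σ k)) (D : ℕ) : Prop where
  prime : P.IsPrime
  le : I ≤ P
  min : ∀ Q : Ideal (MvPolynomial σ k), Q.IsPrime → I ≤ Q → P ≤ Q
  red : ∀ x ∈ P, ∃ s ∉ P, s * x ∈ I
  dim : ringKrullDim (MvPolynomial σ k ⧸ P) = D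
  gen : Gen I D

theorem Gen.le_dim {σ : Type*} [Finite σ] {I : Ideal (MvPolynomial σ k)} {D : ℕ} (h : Gen I D)
    {Q : Ideal (MvPolynomial σ k)} (hQ : Q ∈ I.minimalPrimes) : (D : WithBot ℕ∞) ≤ ringKrullDim (MvPolynomial σ k ⧸ Q) := by
  obtain ⟨s, hs, hc⟩ := h
  have hQp : Q.IsPrime := hQ.1.1
  rw [← hs] at hQ
  have h1 := Ideal.height_le_card_of_mem_minimalPrimes_span_finset hQ
  obtain ⟨a, b, ha, -, hb, hab⟩ := exists_nat_dim Q
  rw [hb] at h1
  have h2 : b ≤ s.card := by exact_mod_cast h1
  rw [ha]
  have h3 : D ≤ a := by omega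
  exact_mod_cast h3

theorem dim_lt {σ : Type*} [Finite σ] {P Q : Ideal (MvPolynomial σ k)} [P.IsPrime] [Q.IsPrime] (h : P < Q) {D : ℕ}
    (hD : ringKrullDim (MvPolynomial σ k ⧸ P) ≤ D) : ringKrullDim (MvPolynomial σ k ⧸ Q) + 1 ≤ D := by
  obtain ⟨a, b, ha, -, hb, hab⟩ := exists_nat_dim P
  obtain ⟨a', b', ha', -, hb', hab'⟩ := exists_nat_dim Q
  have h1 := Ideal.height_strict_mono_of_isPrime_of_isPrime h
  rw [hb, hb'] at h1
  have h2 : b < b' := by exact_mod_cast h1
  rw [ha] at hD
  have h3 : a ≤ D := by exact_mod_cast hD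
  rw [ha']
  have h4 : a' + 1 ≤ D := by omega
  exact_mod_cast h4

/-- A point of `V(P)` outside of the zero set of `f`. -/
theorem exists_point [IsAlgClosed k] {σ : Type*} [Finite σ] (P : Ideal (MvPolynomial σ k)) [hP : P.IsPrime]
    {f : MvPolynomial σ k} (hf : f ∉ P) : ∃ x : σ → k, (∀ p ∈ P, eval x p = 0) ∧ eval x f ≠ 0 := by
  by_contra hcon
  push Not at hcon
  apply hf
  have h1 : f ∈ vanishingIdeal k (zeroLocus k P) := by
    rw [mem_vanishingIdeal_iff]
    intro x hx
    rw [mem_zeroLocus_iff] at hx
    have he : ∀ p, aeval x p = eval x p := fun p => RingHom.congr_fun (coe_aeval_eq_eval x) p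
    rw [he]
    exact hcon x fun p hp => by rw [← he]; exact hx p hp
  rw [vanishingIdeal_zeroLocus_eq_radical, hP.radical] at h1
  exact h1

theorem IG.le_radical {σ : Type*} {I P : Ideal (MvPolynomial σ k)} {D : ℕ} (h : IG I P D) : P ≤ I.radical := by
  rw [Ideal.radical_eq_sInf]
  exact le_sInf fun Q hQ => h.min Q hQ.2 hQ.1

/-- Transport along a renaming of the variables. -/
theorem IG.rename {σ τ : Type*} {I P : Ideal (MvPolynomial σ k)} {D : ℕ} (h : IG I P D) (e : σ ≃ τ) :
    IG (I.comap (renameEquiv k e.symm)) (P.comap (renameEquiv k e.symm)) D := by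
  classical
  have hp := h.prime
  refine ⟨Ideal.comap_isPrime _ _, Ideal.comap_mono h.le, ?_, ?_, ?_, ?_⟩
  · intro Q hQ hIQ
    have h1 := h.min (Q.comap (renameEquiv k e)) (Ideal.comap_isPrime _ _) ?_
    · intro x hx
      have h2 := h1 hx
      rw [Ideal.mem_comap] at h2
      have h3 : renameEquiv k e (renameEquiv k e.symm x) = x := by
        rw [← renameEquiv_symm]
        exact (renameEquiv k e).apply_symm_apply x
      rwa [h3] at h2
    · intro x hx
      rw [Ideal.mem_comap]
      apply hIQ
      rw [Ideal.mem_comap]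
      have h3 : renameEquiv k e.symm (renameEquiv k e x) = x := by
        rw [← renameEquiv_symm]
        exact (renameEquiv k e).symm_apply_apply x
      rwa [h3]
  · intro x hx
    obtain ⟨s, hs, hsx⟩ := h.red _ hx
    have h3 : ∀ y, renameEquiv k e.symm (renameEquiv k e y) = y := by
      intro y
      rw [← renameEquiv_symm]
      exact (renameEquiv k e).symm_apply_apply y
    refine ⟨renameEquiv k e s, ?_, ?_⟩
    · rw [Ideal.mem_comap, h3]
      exact hs
    · rw [Ideal.mem_comap, map_mul, h3]
      exact hsx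
  · rw [← h.dim]
    refine ringKrullDim_eq_of_ringEquiv ?_
    exact (Ideal.quotientEquiv _ _ (renameEquiv k e.symm).toRingEquiv
      (Ideal.map_comap_of_surjective _ (renameEquiv k e.symm).surjective P).symm)
  · obtain ⟨s, hs, hc⟩ := h.gen
    refine ⟨s.image (renameEquiv k e), ?_, ?_⟩
    · have h1 : I.comap (renameEquiv k e.symm) = I.map (renameEquiv k e) := by
        rw [← renameEquiv_symm]
        exact (Ideal.map_comap_of_equiv (I := I) (renameEquiv k e).toRingEquiv).symm
      rw [h1, ← hs, Ideal.map_span, Finset.coe_image]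
    · rw [← Nat.card_congr e]
      exact (Nat.add_le_add_right Finset.card_image_le _).trans hc

end K791
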