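import Groth.Agent.Fano.K791.Fib
import Mathlib.RingTheory.MvPolynomial.Homogeneous
import Mathlib.Algebra.Polynomial.Reverse

/-!
# Forms on lines and on rational curves

* `bin φ G a b = G(a + b t)`, a polynomial in `t`;
* `lineI φ G a`: the ideal of the `b` such that `G(a + b t) = 0`;
* `crv φ G c = G(∑ c_j t^j)`.
-/

set_option autoImplicit false

namespace K791.Line

open MvPolynomial

variable {k : Type*} [Field k] {n : ℕ}

section Defs

variable {A : Type*} [CommRing A]

/-- The polynomial `G(p_0(t), …, p_n(t))`. -/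
noncomputable def gev (φ : k →+* A) (G : MvPolynomial (Fin (n + 1)) k) (p : Fin (n + 1) → Polynomial A) :
    Polynomial A := eval₂ (Polynomial.C.comp φ) p G

/-- The polynomial `G(a + b t)`. -/
noncomputable def bin (φ : k →+* A) (G : MvPolynomial (Fin (n + 1)) k) (a b : Fin (n + 1) → A) : Polynomial A :=
  gev φ G fun i => Polynomial.C (a i) + Polynomial.C (b i) * Polynomial.X

/-- The ideal of the `b` such that `G(a + b t) = 0`. -/
noncomputable def lineI (φ : k →+* A) (G : MvPolynomial (Fin (n + 1)) k) (a : Fin (n + 1) → A) :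
    Ideal (MvPolynomial (Fin (n + 1)) A) :=
  Ideal.span (Set.range fun m : ℕ => (bin (C.comp φ) G (fun i => C (a i)) X).coeff m)

/-- The polynomial `G(∑ c_j t^j)`. -/
noncomputable def crv {e : ℕ} (φ : k →+* A) (G : MvPolynomial (Fin (n + 1)) k) (c : Fin (e + 1) → Fin (n + 1) → A) :
    Polynomial A := gev φ G fun i => ∑ j : Fin (e + 1), Polynomial.C (c j i) * Polynomial.X ^ (j : ℕ)

end Defs

section Map

variable {A B : Type*} [CommRing A] [CommRing B] (θ : A →+* B) (φ : k →+* A) (G : MvPolynomial (Fin (n + 1)) k)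

theorem gev_map (p : Fin (n + 1) → Polynomial A) :
    (gev φ G p).map θ = gev (θ.comp φ) G fun i => (p i).map θ := by
  rw [gev, gev, ← Polynomial.coe_mapRingHom, MvPolynomial.hom_eval₂]
  congr 1
  ext x
  simp

theorem bin_map (a b : Fin (n + 1) → A) :
    (bin φ G a b).map θ = bin (θ.comp φ) G (fun i => θ (a i)) (fun i => θ (b i)) := by
  rw [bin, bin, gev_map]
  congr 1
  funext i
  simp

theorem bin_coeff_map (a b : Fin (n + 1) → A) (m : ℕ) :
    θ ((bin φ G a b).coeff m) = (bin (θ.comp φ) G (fun i => θ (a i)) (fun i => θ (b i))).coeff m := by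
  rw [← bin_map, Polynomial.coeff_map]

theorem crv_map {e : ℕ} (c : Fin (e + 1) → Fin (n + 1) → A) :
    (crv φ G c).map θ = crv (θ.comp φ) G (fun j i => θ (c j i)) := by
  rw [crv, crv, gev_map]
  congr 1
  funext i
  simp [Polynomial.map_sum]

end Map

section Hom

variable {A : Type*} [CommRing A] (φ : k →+* A) {G : MvPolynomial (Fin (n + 1)) k} {d : ℕ}

theorem gev_eq (p : Fin (n + 1) → Polynomial A) :
    gev φ G p = ∑ α ∈ G.support, Polynomial.C (φ (G.coeff α)) * ∏ i, p i ^ α i := by
  rw [gev, MvPolynomial.eval₂_eq']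
  rfl

theorem reflect_prod {ι : Type*} (s : Finset ι) (f : ι → Polynomial A) (N : ι → ℕ) (h : ∀ i ∈ s, (f i).natDegree ≤ N i) :
    Polynomial.reflect (∑ i ∈ s, N i) (∏ i ∈ s, f i) = ∏ i ∈ s, Polynomial.reflect (N i) (f i) ∧
      (∏ i ∈ s, f i).natDegree ≤ ∑ i ∈ s, N i := by
  classical
  induction s using Finset.induction_on with
  | empty => simp
  | insert a s ha ih =>
    have h1 := ih fun i hi => h i (Finset.mem_insert_of_mem hi)
    have h2 := h a (Finset.mem_insert_self a s)
    rw [Finset.sum_insert ha, Finset.prod_insert ha, Finset.prod_insert ha]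
    refine ⟨?_, ?_⟩
    · rw [Polynomial.reflect_mul _ _ h2 h1.2, h1.1]
    · exact Polynomial.natDegree_mul_le.trans (Nat.add_le_add h2 h1.2)

theorem natDegree_lin (a b : A) : (Polynomial.C a + Polynomial.C b * Polynomial.X).natDegree ≤ 1 := by
  rw [add_comm]
  exact Polynomial.natDegree_linear_le

theorem reflect_lin (a b : A) : Polynomial.reflect 1 (Polynomial.C a + Polynomial.C b * Polynomial.X) =
    Polynomial.C b + Polynomial.C a * Polynomial.X := by
  ext m
  rw [Polynomial.coeff_reflect]
  rcases m with _ | _ | m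
  · simp [Polynomial.revAt_le]
  · simp [Polynomial.revAt_le, Polynomial.coeff_C]
  · have : Polynomial.revAt 1 (m + 2) = m + 2 := Polynomial.revAt_eq_self_of_lt (by omega)
    rw [this]
    simp [Polynomial.coeff_C, Polynomial.coeff_X]

theorem reflect_lin_pow (a b : A) (N : ℕ) :
    Polynomial.reflect N ((Polynomial.C a + Polynomial.C b * Polynomial.X) ^ N) =
      (Polynomial.C b + Polynomial.C a * Polynomial.X) ^ N ∧
    ((Polynomial.C a + Polynomial.C b * Polynomial.X) ^ N).natDegree ≤ N := by
  have h := reflect_prod (Finset.univ : Finset (Fin N)) (fun _ => Polynomial.C a + Polynomial.C b * Polynomial.X)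
    (fun _ => 1) (fun _ _ => natDegree_lin a b)
  simp only [Finset.sum_const, Finset.card_univ, Fintype.card_fin, smul_eq_mul, mul_one, Finset.prod_const,
    reflect_lin] at h
  exact h

theorem degree_of_mem (hG : G.IsHomogeneous d) {α : Fin (n + 1) →₀ ℕ} (hα : α ∈ G.support) : ∑ i, α i = d := by
  have h := hG (mem_support_iff.1 hα)
  rw [← h, Finsupp.weight_apply, Finsupp.sum_fintype _ _ (by simp)]
  simp

theorem bin_term (hG : G.IsHomogeneous d) (a b : Fin (n + 1) → A) {α : Fin (n + 1) →₀ ℕ} (hα : α ∈ G.support) :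
    Polynomial.reflect d (∏ i, (Polynomial.C (a i) + Polynomial.C (b i) * Polynomial.X) ^ α i) =
      ∏ i, (Polynomial.C (b i) + Polynomial.C (a i) * Polynomial.X) ^ α i ∧
    (∏ i, (Polynomial.C (a i) + Polynomial.C (b i) * Polynomial.X) ^ α i).natDegree ≤ d := by
  have h := reflect_prod Finset.univ (fun i => (Polynomial.C (a i) + Polynomial.C (b i) * Polynomial.X) ^ α i)
    (fun i => α i) (fun i _ => (reflect_lin_pow (a i) (b i) (α i)).2)
  rw [degree_of_mem hG hα] at h
  refine ⟨h.1.trans ?_, h.2⟩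
  exact Finset.prod_congr rfl fun i _ => (reflect_lin_pow (a i) (b i) (α i)).1

theorem reflect_C_mul' (N : ℕ) (r : A) (f : Polynomial A) :
    Polynomial.reflect N (Polynomial.C r * f) = Polynomial.C r * Polynomial.reflect N f := by
  ext m
  simp [Polynomial.coeff_reflect]

theorem reflect_sum' {ι : Type*} (N : ℕ) (s : Finset ι) (f : ι → Polynomial A) :
    Polynomial.reflect N (∑ i ∈ s, f i) = ∑ i ∈ s, Polynomial.reflect N (f i) := by
  ext m
  simp [Polynomial.coeff_reflect]

theorem natDegree_bin (hG : G.IsHomogeneous d) (a b : Fin (n + 1) → A) : (bin φ G a b).natDegree ≤ d := by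
  rw [bin, gev_eq]
  refine Polynomial.natDegree_sum_le_of_forall_le _ _ fun α hα => ?_
  exact (Polynomial.natDegree_C_mul_le _ _).trans (bin_term hG a b hα).2

/-- Exchanging `a` and `b`. -/
theorem reflect_bin (hG : G.IsHomogeneous d) (a b : Fin (n + 1) → A) :
    Polynomial.reflect d (bin φ G a b) = bin φ G b a := by
  rw [bin, bin, gev_eq, gev_eq, reflect_sum']
  refine Finset.sum_congr rfl fun α hα => ?_
  rw [reflect_C_mul', (bin_term hG a b hα).1]

theorem coeff_bin_swap (hG : G.IsHomogeneous d) (a b : Fin (n + 1) → A) {m : ℕ} (hm : m ≤ d) :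
    (bin φ G b a).coeff m = (bin φ G a b).coeff (d - m) := by
  rw [← reflect_bin φ hG, Polynomial.coeff_reflect, Polynomial.revAt_le hm]

theorem coeff_bin_of_lt (hG : G.IsHomogeneous d) (a b : Fin (n + 1) → A) {m : ℕ} (hm : d < m) :
    (bin φ G a b).coeff m = 0 :=
  Polynomial.coeff_eq_zero_of_natDegree_lt (lt_of_le_of_lt (natDegree_bin φ hG a b) hm)

theorem coeff_bin_zero (a b : Fin (n + 1) → A) : (bin φ G a b).coeff 0 = eval₂ φ a G := by
  rw [Polynomial.coeff_zero_eq_eval_zero, bin, gev, ← Polynomial.coe_evalRingHom, MvPolynomial.hom_eval₂]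
  congr 1
  · ext x
    simp
  · funext i
    simp

theorem coeff_bin_top (hG : G.IsHomogeneous d) (a b : Fin (n + 1) → A) : (bin φ G a b).coeff d = eval₂ φ b G := by
  have h := coeff_bin_swap φ hG b a (le_refl d)
  rw [Nat.sub_self, coeff_bin_zero] at h
  exact h

end Hom

end K791.Line
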