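import Groth.Agent.Fano.K791.Line
import Groth.Agent.Fano.K791.IG

/-!
# Adding a line

`theta0 π : k[σ ⊕ τ] → K[τ]` for `π : k[σ] → K`, with kernel `ker π` extended.
-/

set_option autoImplicit false

namespace K791

open MvPolynomial K714.DimMv Line Groth.Agent.CalgC.DimFT

variable {k : Type*} [Field k]

section Theta

variable {σ τ : Type*} {K : Type*} [CommRing K]

/-- `k[σ ⊕ τ] = k[σ][τ]`. -/
noncomputable def psi (k : Type*) [Field k] (σ τ : Type*) :
    MvPolynomial (σ ⊕ τ) k ≃ₐ[k] MvPolynomial τ (MvPolynomial σ k) :=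
  (renameEquiv k (Equiv.sumComm σ τ)).trans (sumAlgEquiv k τ σ)

theorem psi_inl (p : MvPolynomial σ k) : psi k σ τ (rename Sum.inl p) = C p := by
  have h : ((psi k σ τ).toAlgHom.comp (rename Sum.inl)) =
      (IsScalarTower.toAlgHom k (MvPolynomial σ k) (MvPolynomial τ (MvPolynomial σ k))) := by
    apply MvPolynomial.algHom_ext
    intro i
    simp [psi, algebraMap_eq]
  exact DFunLike.congr_fun h p

theorem psi_inr (i : τ) : psi k σ τ (X (Sum.inr i)) = X i := by
  simp [psi]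

/-- The base change of `π : k[σ] → K` to `k[σ ⊕ τ] → K[τ]`. -/
noncomputable def theta0 (τ : Type*) (π : MvPolynomial σ k →+* K) : MvPolynomial (σ ⊕ τ) k →+* MvPolynomial τ K :=
  (map π).comp (psi k σ τ).toRingEquiv.toRingHom

theorem theta0_inl (π : MvPolynomial σ k →+* K) (p : MvPolynomial σ k) :
    theta0 τ π (rename Sum.inl p) = C (π p) := by
  change map π (psi k σ τ (rename Sum.inl p)) = _
  rw [psi_inl, map_C]

theorem theta0_inr (π : MvPolynomial σ k →+* K) (i : τ) :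
    theta0 τ π (X (Sum.inr i)) = X i := by
  change map π (psi k σ τ (X (Sum.inr i))) = _
  rw [psi_inr, map_X]

theorem theta0_C (π : MvPolynomial σ k →+* K) (x : k) : theta0 τ π (C x) = C (π (C x)) := by
  rw [← theta0_inl, rename_C]

theorem ker_theta0 (π : MvPolynomial σ k →+* K) :
    RingHom.ker (theta0 τ π) = (RingHom.ker π).map (rename (R := k) (Sum.inl : σ → σ ⊕ τ)) := by
  apply le_antisymm
  · intro x hx
    have h1 : psi k σ τ x ∈ RingHom.ker (map π : MvPolynomial τ (MvPolynomial σ k) →+* _) := hx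
    rw [MvPolynomial.ker_map] at h1
    have h2 : x = (psi k σ τ).symm (psi k σ τ x) := ((psi k σ τ).symm_apply_apply x).symm
    rw [h2]
    have h3 : ((RingHom.ker π).map (C : MvPolynomial σ k →+* MvPolynomial τ (MvPolynomial σ k))) ≤
        ((RingHom.ker π).map (rename (R := k) (Sum.inl : σ → σ ⊕ τ))).comap
          (psi k σ τ).symm.toRingEquiv.toRingHom := by
      rw [Ideal.map_le_iff_le_comap]
      intro y hy
      rw [Ideal.mem_comap, Ideal.mem_comap]
      change (psi k σ τ).symm (C y) ∈ _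
      rw [← psi_inl (k := k) (τ := τ) y, AlgEquiv.symm_apply_apply]
      exact Ideal.mem_map_of_mem _ hy
    exact h3 h1
  · rw [Ideal.map_le_iff_le_comap]
    intro y hy
    rw [Ideal.mem_comap, RingHom.mem_ker, theta0_inl, (RingHom.mem_ker).1 hy, map_zero]

/-- Clearing denominators. -/
theorem exists_theta0 {K : Type*} [Field K] (π : MvPolynomial σ k →+* K)
    (hπ : ∀ c : K, ∃ s z, π s ≠ 0 ∧ π s * c = π z) (c : MvPolynomial τ K) :
    ∃ s z, π s ≠ 0 ∧ C (π s) * c = theta0 τ π z := by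
  induction c using MvPolynomial.induction_on with
  | C c =>
    obtain ⟨s, z, h1, h2⟩ := hπ c
    exact ⟨s, rename Sum.inl z, h1, by rw [theta0_inl, ← h2, map_mul]⟩
  | add p q hp hq =>
    obtain ⟨s, z, h1, h2⟩ := hp
    obtain ⟨s', z', h1', h2'⟩ := hq
    refine ⟨s * s', rename Sum.inl s' * z + rename Sum.inl s * z', ?_, ?_⟩
    · rw [map_mul]
      exact mul_ne_zero h1 h1'
    · rw [map_add, map_mul, map_mul, map_mul, map_mul, theta0_inl, theta0_inl, ← h2, ← h2']
      ring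
  | mul_X p i hp =>
    obtain ⟨s, z, h1, h2⟩ := hp
    exact ⟨s, z * X (Sum.inr i), h1, by rw [map_mul, theta0_inr, ← h2, mul_assoc]⟩

theorem exists_theta0_span {K : Type*} [Field K] (π : MvPolynomial σ k →+* K)
    (hπ : ∀ c : K, ∃ s z, π s ≠ 0 ∧ π s * c = π z) {ι : Type*} (g : ι → MvPolynomial (σ ⊕ τ) k)
    (c : MvPolynomial τ K) (hc : c ∈ Ideal.span (Set.range fun i => theta0 τ π (g i))) :
    ∃ s z, π s ≠ 0 ∧ z ∈ Ideal.span (Set.range g) ∧ C (π s) * c = theta0 τ π z := by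
  induction hc using Submodule.span_induction with
  | mem x h =>
    obtain ⟨i, rfl⟩ := h
    refine ⟨1, g i, ?_, Ideal.subset_span ⟨i, rfl⟩, ?_⟩
    · rw [map_one]
      exact one_ne_zero
    · rw [map_one, map_one, one_mul]
  | zero =>
    exact ⟨1, 0, by rw [map_one]; exact one_ne_zero, Ideal.zero_mem _, by rw [mul_zero, map_zero]⟩
  | add p q _ _ hp hq =>
    obtain ⟨s, z, h1, h3, h2⟩ := hp
    obtain ⟨s', z', h1', h3', h2'⟩ := hq
    refine ⟨s * s', rename Sum.inl s' * z + rename Sum.inl s * z', ?_,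
      Ideal.add_mem _ (Ideal.mul_mem_left _ _ h3) (Ideal.mul_mem_left _ _ h3'), ?_⟩
    · rw [map_mul]
      exact mul_ne_zero h1 h1'
    · rw [map_add, map_mul, map_mul, map_mul, map_mul, theta0_inl, theta0_inl, ← h2, ← h2']
      ring
  | smul a x _ hx =>
    obtain ⟨s, z, h1, h3, h2⟩ := hx
    obtain ⟨s', z', h1', h2'⟩ := exists_theta0 π hπ a
    refine ⟨s * s', z' * z, ?_, Ideal.mul_mem_left _ _ h3, ?_⟩
    · rw [map_mul]
      exact mul_ne_zero h1 h1'
    · rw [map_mul, map_mul, map_mul, ← h2, ← h2', smul_eq_mul]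
      ring

end Theta

section Main

variable {σ : Type*} {n d : ℕ}

/-- The equations of a line through the point `a`. -/
noncomputable def newEq (G : MvPolynomial (Fin (n + 1)) k) (a : Fin (n + 1) → MvPolynomial σ k) (m : ℕ) :
    MvPolynomial (σ ⊕ Fin (n + 1)) k :=
  (bin C G (fun i => rename Sum.inl (a i)) (fun i => X (Sum.inr i))).coeff m

/-- The ideal of the pairs (point of `V(I)`, line through `a`). -/
noncomputable def stepI (I : Ideal (MvPolynomial σ k)) (G : MvPolynomial (Fin (n + 1)) k)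
    (a : Fin (n + 1) → MvPolynomial σ k) : Ideal (MvPolynomial (σ ⊕ Fin (n + 1)) k) :=
  I.map (rename (R := k) (Sum.inl : σ → σ ⊕ Fin (n + 1))) ⊔ Ideal.span (Set.range (newEq G a))

theorem eval₂_C_rename {ρ ρ' : Type*} (f : ρ → ρ') (G : MvPolynomial (Fin (n + 1)) k)
    (a : Fin (n + 1) → MvPolynomial ρ k) :
    eval₂ C (fun i => rename f (a i)) G = rename f (eval₂ C a G) := by
  change _ = (rename (R := k) f).toRingHom _
  rw [MvPolynomial.hom_eval₂]
  congr 1
  ext x
  simp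

theorem gen_step [Finite σ] {I : Ideal (MvPolynomial σ k)} {D δ : ℕ} (h : Gen I D)
    {G : MvPolynomial (Fin (n + 1)) k} (hG : G.IsHomogeneous d) (hδ : δ + d = n + 1)
    (a : Fin (n + 1) → MvPolynomial σ k) (haG : eval₂ C a G ∈ I) : Gen (stepI I G a) (D + δ) := by
  classical
  obtain ⟨s, hs, hc⟩ := h
  refine ⟨s.image (rename Sum.inl) ∪ (Finset.range d).image (fun m => newEq G a (m + 1)), ?_, ?_⟩
  · rw [Finset.coe_union, Ideal.span_union, Finset.coe_image, ← Ideal.map_span, hs, stepI]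
    refine le_antisymm (sup_le_sup_left (Ideal.span_mono ?_) _) (sup_le le_sup_left ?_)
    · rw [Finset.coe_image]
      rintro _ ⟨m, -, rfl⟩
      exact ⟨m + 1, rfl⟩
    · rw [Ideal.span_le]
      rintro _ ⟨m, rfl⟩
      rcases m with _ | m
      · apply Ideal.mem_sup_left
        rw [newEq, coeff_bin_zero, eval₂_C_rename]
        exact Ideal.mem_map_of_mem _ haG
      · by_cases hm : m < d
        · apply Ideal.mem_sup_right
          apply Ideal.subset_span
          rw [Finset.coe_image]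
          exact ⟨m, by simpa using hm, rfl⟩
        · have h0 : newEq G a (m + 1) = 0 := coeff_bin_of_lt _ hG _ _ (by omega)
          rw [SetLike.mem_coe, h0]
          exact Ideal.zero_mem _
  · rw [Nat.card_sum, Nat.card_eq_fintype_card (α := Fin (n + 1)), Fintype.card_fin]
    have h1 := Finset.card_union_le (s.image (rename (R := k) (Sum.inl : σ → σ ⊕ Fin (n + 1))))
      ((Finset.range d).image (fun m => newEq G a (m + 1)))
    have h2 : (s.image (rename (R := k) (Sum.inl : σ → σ ⊕ Fin (n + 1)))).card ≤ s.card := Finset.card_image_le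
    have h3 : ((Finset.range d).image (fun m => newEq G a (m + 1))).card ≤ d :=
      Finset.card_image_le.trans (by rw [Finset.card_range])
    omega

theorem slice_newEq (G : MvPolynomial (Fin (n + 1)) k) (a : Fin (n + 1) → MvPolynomial σ k) (m : ℕ) (v : σ → k) :
    slice v (newEq G a m) = (bin C G (fun i => C (eval v (a i))) X).coeff m := by
  have h := bin_coeff_map (slice (τ := Fin (n + 1)) v).toRingHom C G (fun i => rename Sum.inl (a i))
    (fun i => X (Sum.inr i)) m
  refine h.trans ?_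
  have e1 : (slice (τ := Fin (n + 1)) v).toRingHom.comp C = (C : k →+* MvPolynomial (Fin (n + 1)) k) := by
    ext x
    simp [slice]
  have e2 : (fun i => (slice (τ := Fin (n + 1)) v).toRingHom (rename Sum.inl (a i))) =
      fun i => (C (eval v (a i)) : MvPolynomial (Fin (n + 1)) k) := by
    funext i
    change slice v (rename Sum.inl (a i)) = _
    rw [slice, aeval_rename]
    have e3 : (Sum.elim (fun i => (C (v i) : MvPolynomial (Fin (n + 1)) k)) X ∘ Sum.inl) = fun i => C (v i) := rfl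
    rw [e3]
    induction a i using MvPolynomial.induction_on with
    | C x => simp
    | add p q hp hq => rw [map_add, map_add, map_add, hp, hq]
    | mul_X p j hp => rw [map_mul, map_mul, map_mul, hp, aeval_X, eval_X]
  have e3 : (fun i => (slice (τ := Fin (n + 1)) v).toRingHom (X (Sum.inr i))) =
      (X : Fin (n + 1) → MvPolynomial (Fin (n + 1)) k) := by
    funext i
    change slice v (X (Sum.inr i)) = _
    simp [slice]
  rw [e1, e2, e3]

theorem lineI_le_slice {G : MvPolynomial (Fin (n + 1)) k} {a : Fin (n + 1) → MvPolynomial σ k}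
    {I : Ideal (MvPolynomial σ k)}
    {Q : Ideal (MvPolynomial (σ ⊕ Fin (n + 1)) k)} (hQ : stepI I G a ≤ Q) (v : σ → k) :
    lineI (RingHom.id k) G (fun i => eval v (a i)) ≤ Q.map (slice v) := by
  rw [lineI, Ideal.span_le]
  rintro _ ⟨m, rfl⟩
  rw [SetLike.mem_coe]
  have h := slice_newEq G a m v
  rw [RingHomCompTriple.comp_eq]
  change (bin C G (fun i => C (eval v (a i))) X).coeff m ∈ _
  rw [← h]
  exact Ideal.mem_map_of_mem _ (hQ (Ideal.mem_sup_right (Ideal.subset_span ⟨m, rfl⟩)))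

theorem dim_of_mem {Q : Ideal (MvPolynomial (Fin (n + 1)) k)} {G : MvPolynomial (Fin (n + 1)) k} (hG : G ≠ 0)
    (h : G ∈ Q) : ringKrullDim (MvPolynomial (Fin (n + 1)) k ⧸ Q) ≤ n := by
  have h1 : ringKrullDim (MvPolynomial (Fin (n + 1)) k ⧸ Ideal.span {G}) ≤ n := by
    have h2 := ringKrullDim_quotient_succ_le_of_nonZeroDivisor (R := MvPolynomial (Fin (n + 1)) k)
      (mem_nonZeroDivisors_of_ne_zero hG)
    rw [ringKrullDim_mvPolynomial_fin] at h2
    have h3 : ((n + 1 : ℕ) : WithBot ℕ∞) = (n : WithBot ℕ∞) + 1 := by push_cast; rfl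
    rw [h3] at h2
    exact (WithBot.add_le_add_iff_right' (by decide) (by decide)).1 h2
  refine le_trans (ringKrullDim_le_of_surjective (Ideal.Quotient.factor
    ((Ideal.span_singleton_le_iff_mem _).2 h)) ?_) h1
  exact Ideal.Quotient.factor_surjective _

theorem eval_eval₂_C (v : σ → k) (a : Fin (n + 1) → MvPolynomial σ k) (G : MvPolynomial (Fin (n + 1)) k) :
    eval v (eval₂ C a G) = eval (fun i => eval v (a i)) G := by
  rw [MvPolynomial.hom_eval₂, eval₂_eq_eval_map]
  congr 1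
  have : (eval v).comp C = RingHom.id k := by
    ext x
    simp
  rw [this, MvPolynomial.map_id]

theorem dim_le_of_ne [IsAlgClosed k] [Finite σ] {G : MvPolynomial (Fin (n + 1)) k} {δ : ℕ}
    (H1 : ∀ v : Fin (n + 1) → k, v ≠ 0 → eval v G = 0 →
      ringKrullDim (MvPolynomial (Fin (n + 1)) k ⧸ lineI (RingHom.id k) G v) ≤ δ)
    {I : Ideal (MvPolynomial σ k)} {a : Fin (n + 1) → MvPolynomial σ k} (haG : eval₂ C a G ∈ I)
    (Q : Ideal (MvPolynomial (σ ⊕ Fin (n + 1)) k)) [hQp : Q.IsPrime] (hQ : stepI I G a ≤ Q) (i : Fin (n + 1))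
    (hi : a i ∉ Q.comap (rename (R := k) (Sum.inl : σ → σ ⊕ Fin (n + 1)))) :
    ringKrullDim (MvPolynomial (σ ⊕ Fin (n + 1)) k ⧸ Q) ≤
      ringKrullDim (MvPolynomial σ k ⧸ Q.comap (rename (R := k) (Sum.inl : σ → σ ⊕ Fin (n + 1)))) + δ := by
  obtain ⟨x, hx, hxi⟩ := exists_point Q (f := rename Sum.inl (a i)) hi
  have hxe : Sum.elim (x ∘ Sum.inl) (x ∘ Sum.inr) = x := Sum.elim_comp_inl_inr x
  rw [eval_rename] at hxi
  refine Fib.dim_le Q (x ∘ Sum.inl) (x ∘ Sum.inr) (by rw [hxe]; exact hx) δ ?_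
  have h0 : eval (fun i => eval (x ∘ Sum.inl) (a i)) G = 0 := by
    rw [← eval_eval₂_C]
    have h1 := hx _ (hQ (Ideal.mem_sup_left (Ideal.mem_map_of_mem
      (rename (R := k) (Sum.inl : σ → σ ⊕ Fin (n + 1))) haG)))
    rwa [eval_rename] at h1
  refine le_trans (ringKrullDim_le_of_surjective (Ideal.Quotient.factor (lineI_le_slice hQ (x ∘ Sum.inl)))
    (Ideal.Quotient.factor_surjective _)) (H1 _ ?_ h0)
  intro h
  exact hxi (congrFun h i)

theorem dim_le_of_mem [IsAlgClosed k] [Finite σ] {G : MvPolynomial (Fin (n + 1)) k} (hG : G.IsHomogeneous d)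
    (hG0 : G ≠ 0) {I : Ideal (MvPolynomial σ k)} {a : Fin (n + 1) → MvPolynomial σ k}
    (Q : Ideal (MvPolynomial (σ ⊕ Fin (n + 1)) k)) [hQp : Q.IsPrime] (hQ : stepI I G a ≤ Q)
    (hi : ∀ i, a i ∈ Q.comap (rename (R := k) (Sum.inl : σ → σ ⊕ Fin (n + 1)))) :
    ringKrullDim (MvPolynomial (σ ⊕ Fin (n + 1)) k ⧸ Q) ≤
      ringKrullDim (MvPolynomial σ k ⧸ Q.comap (rename (R := k) (Sum.inl : σ → σ ⊕ Fin (n + 1)))) + n := by
  obtain ⟨x, hx, -⟩ := exists_point Q (f := 1) (fun h => hQp.ne_top ((Ideal.eq_top_iff_one _).2 h))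
  have hxe : Sum.elim (x ∘ Sum.inl) (x ∘ Sum.inr) = x := Sum.elim_comp_inl_inr x
  refine Fib.dim_le Q (x ∘ Sum.inl) (x ∘ Sum.inr) (by rw [hxe]; exact hx) n (dim_of_mem hG0 ?_)
  have h0 : ∀ i, eval (x ∘ Sum.inl) (a i) = 0 := by
    intro i
    have h1 := hx _ (hi i)
    rwa [eval_rename] at h1
  have h2 := slice_newEq G a d (x ∘ Sum.inl)
  rw [coeff_bin_top _ hG, MvPolynomial.eval₂_eta] at h2
  rw [← h2]
  exact Ideal.mem_map_of_mem _ (hQ (Ideal.mem_sup_right (Ideal.subset_span ⟨d, rfl⟩)))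

end Main

section Thm

universe u

variable {k : Type u} [Field k] {σ : Type} {n d : ℕ}

/-- The hypotheses on the form `G`: degree `d`, the lines through each point form a cone of dimension `δ = n + 1 - d`,
and the lines through the generic point form an irreducible cone. -/
structure Good (G : MvPolynomial (Fin (n + 1)) k) (d δ : ℕ) : Prop where
  hom : G.IsHomogeneous d
  prime : (Ideal.span {G}).IsPrime
  ne : G ≠ 0
  sum : δ + d = n + 1
  H1 : ∀ v : Fin (n + 1) → k, v ≠ 0 → eval v G = 0 →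
      ringKrullDim (MvPolynomial (Fin (n + 1)) k ⧸ lineI (RingHom.id k) G v) ≤ δ
  H2 : ∀ (Ω : Type u) [Field Ω] (φ : k →+* Ω) (a : Fin (n + 1) → Ω),
    RingHom.ker (eval₂Hom φ a) = Ideal.span {G} → IsDomain (MvPolynomial (Fin (n + 1)) Ω ⧸ lineI φ G a)

theorem step [IsAlgClosed k] [Finite σ] {G : MvPolynomial (Fin (n + 1)) k} {δ : ℕ} (hG : Good G d δ)
    {I P : Ideal (MvPolynomial σ k)} {D : ℕ} (h : IG I P D) (a : Fin (n + 1) → MvPolynomial σ k)
    (haG : eval₂ C a G ∈ I) (hgen : P.comap (eval₂Hom C a) = Ideal.span {G})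
    (i₀ : Fin (n + 1)) (hi₀ : a i₀ ∉ P)
    (ha0 : ∀ Q : Ideal (MvPolynomial σ k), Q.IsPrime → I ≤ Q → (∀ i, a i ∈ Q) →
      ringKrullDim (MvPolynomial σ k ⧸ Q) + ((n + 1 : ℕ) : WithBot ℕ∞) ≤ ((D + δ : ℕ) : WithBot ℕ∞)) :
    ∃ Q₀, IG (stepI I G a) Q₀ (D + δ) ∧
      Q₀.comap (rename (R := k) (Sum.inl : σ → σ ⊕ Fin (n + 1))) = P := by
  have hP := h.prime
  let A := MvPolynomial σ k ⧸ P
  let K' := FractionRing A
  let π : MvPolynomial σ k →+* K' := (algebraMap A K').comp (Ideal.Quotient.mk P)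
  have hπker : ∀ p, π p = 0 ↔ p ∈ P := by
    intro p
    rw [← Ideal.Quotient.eq_zero_iff_mem]
    change algebraMap A K' (Ideal.Quotient.mk P p) = 0 ↔ _
    exact FaithfulSMul.algebraMap_eq_zero_iff A K'
  have hπ : ∀ c : K', ∃ s z, π s ≠ 0 ∧ π s * c = π z := by
    intro c
    obtain ⟨x, y, hy, rfl⟩ := IsFractionRing.div_surjective A c
    obtain ⟨x, rfl⟩ := Ideal.Quotient.mk_surjective x
    obtain ⟨y, rfl⟩ := Ideal.Quotient.mk_surjective y
    have hy0 : algebraMap A K' (Ideal.Quotient.mk P y) ≠ 0 := by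
      rw [Ne, FaithfulSMul.algebraMap_eq_zero_iff]
      exact nonZeroDivisors.ne_zero hy
    exact ⟨y, x, hy0, mul_div_cancel₀ _ hy0⟩
  have hkerθ : RingHom.ker (theta0 (Fin (n + 1)) π) = P.map (rename (R := k) (Sum.inl : σ → σ ⊕ Fin (n + 1))) := by
    rw [ker_theta0]
    congr 1
    ext p
    rw [RingHom.mem_ker, hπker]
  have hθ : ∀ m, theta0 (Fin (n + 1)) π (newEq G a m) =
      (bin (C.comp (π.comp C)) G (fun i => C (π (a i))) X).coeff m := by
    intro m
    refine (bin_coeff_map (theta0 (Fin (n + 1)) π) C G _ _ m).trans ?_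
    congr 2
    · ext x
      rw [RingHom.comp_apply, theta0_C]
      rfl
    · funext i
      rw [theta0_inl]
    · funext i
      rw [theta0_inr]
  have hspan : lineI (π.comp C) G (fun i => π (a i)) =
      Ideal.span (Set.range fun m => theta0 (Fin (n + 1)) π (newEq G a m)) := by
    rw [lineI]
    congr 2
    funext m
    rw [hθ]
  have hker : RingHom.ker (eval₂Hom (π.comp C) fun i => π (a i)) = Ideal.span {G} := by
    rw [← hgen]
    ext p
    rw [RingHom.mem_ker, Ideal.mem_comap, ← hπker]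
    change eval₂ (π.comp C) (fun i => π (a i)) p = 0 ↔ π (eval₂ C a p) = 0
    rw [MvPolynomial.hom_eval₂]
  have hdom := hG.H2 K' (π.comp C) (fun i => π (a i)) hker
  have hprime : (lineI (π.comp C) G (fun i => π (a i))).IsPrime := (Ideal.Quotient.isDomain_iff_prime _).1 hdom
  have hQ₀p : ((lineI (π.comp C) G (fun i => π (a i))).comap (theta0 (Fin (n + 1)) π)).IsPrime :=
    Ideal.comap_isPrime _ _
  set Q₀ := (lineI (π.comp C) G (fun i => π (a i))).comap (theta0 (Fin (n + 1)) π) with hQ₀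
  have hcomap : Q₀.comap (rename (R := k) (Sum.inl : σ → σ ⊕ Fin (n + 1))) = P := by
    ext p
    rw [Ideal.mem_comap, hQ₀, Ideal.mem_comap, theta0_inl, ← hπker]
    constructor
    · intro h1
      by_contra h2
      exact hprime.ne_top (Ideal.eq_top_of_isUnit_mem _ h1 ((IsUnit.mk0 _ h2).map C))
    · intro h1
      rw [h1, map_zero]
      exact Ideal.zero_mem _
  have hle : stepI I G a ≤ Q₀ := by
    refine sup_le ?_ ?_
    · rw [Ideal.map_le_iff_le_comap]
      intro p hp
      have h1 : p ∈ Q₀.comap (rename (R := k) (Sum.inl : σ → σ ⊕ Fin (n + 1))) := by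
        rw [hcomap]
        exact h.le hp
      exact h1
    · rw [Ideal.span_le]
      rintro _ ⟨m, rfl⟩
      rw [SetLike.mem_coe, hQ₀, Ideal.mem_comap, hspan]
      exact Ideal.subset_span ⟨m, rfl⟩
  have hPred : ∀ x ∈ P.map (rename (R := k) (Sum.inl : σ → σ ⊕ Fin (n + 1))), ∃ s ∉ P, rename Sum.inl s * x ∈
      I.map (rename (R := k) (Sum.inl : σ → σ ⊕ Fin (n + 1))) := by
    intro x hx
    induction hx using Submodule.span_induction with
    | mem x h' =>
      obtain ⟨y, hy, rfl⟩ := h'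
      obtain ⟨s, hs, hsy⟩ := h.red y hy
      exact ⟨s, hs, by
        have := Ideal.mem_map_of_mem (rename (R := k) (Sum.inl : σ → σ ⊕ Fin (n + 1))) hsy
        rwa [map_mul] at this⟩
    | zero => exact ⟨1, fun h' => hP.ne_top ((Ideal.eq_top_iff_one _).2 h'), by rw [mul_zero]; exact Ideal.zero_mem _⟩
    | add x y _ _ hx hy =>
      obtain ⟨s, hs, hsx⟩ := hx
      obtain ⟨t, ht, hty⟩ := hy
      refine ⟨s * t, hP.mul_notMem hs ht, ?_⟩
      have := Ideal.add_mem _ (Ideal.mul_mem_left _ (rename Sum.inl t) hsx) (Ideal.mul_mem_left _ (rename Sum.inl s) hty)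
      rw [map_mul]
      convert this using 1
      ring
    | smul b x _ hx =>
      obtain ⟨s, hs, hsx⟩ := hx
      refine ⟨s, hs, ?_⟩
      rw [smul_eq_mul, mul_left_comm]
      exact Ideal.mul_mem_left _ _ hsx
  have hred : ∀ x ∈ Q₀, ∃ s ∉ P, rename Sum.inl s * x ∈ stepI I G a := by
    intro x hx
    rw [hQ₀, Ideal.mem_comap, hspan] at hx
    obtain ⟨s, z, hs, hz, hsz⟩ := exists_theta0_span π hπ (newEq G a) _ hx
    have h1 : rename Sum.inl s * x - z ∈ RingHom.ker (theta0 (Fin (n + 1)) π) := by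
      rw [RingHom.mem_ker, map_sub, map_mul, theta0_inl, hsz, sub_self]
    rw [hkerθ] at h1
    obtain ⟨t, ht, htx⟩ := hPred _ h1
    refine ⟨t * s, hP.mul_notMem ht (fun hs' => hs ((hπker s).2 hs')), ?_⟩
    have h2 : rename Sum.inl (t * s) * x = rename Sum.inl t * (rename Sum.inl s * x - z) + rename Sum.inl t * z := by
      rw [map_mul]
      ring
    rw [h2]
    exact Ideal.add_mem _ (Ideal.mem_sup_left htx) (Ideal.mem_sup_right (Ideal.mul_mem_left _ _ hz))
  have hGen := gen_step h.gen hG.hom hG.sum a haG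
  -- minimal primes
  have hmin : ∀ Q ∈ (stepI I G a).minimalPrimes, Q₀ ≤ Q := by
    intro Q hQ
    have hQp : Q.IsPrime := hQ.1.1
    have hdim := hGen.le_dim hQ
    have hpp : (Q.comap (rename (R := k) (Sum.inl : σ → σ ⊕ Fin (n + 1)))).IsPrime := Ideal.comap_isPrime _ _
    set 𝔭 := Q.comap (rename (R := k) (Sum.inl : σ → σ ⊕ Fin (n + 1))) with h𝔭
    have hI𝔭 : I ≤ 𝔭 := by
      intro p hp
      exact hQ.1.2 (Ideal.mem_sup_left (Ideal.mem_map_of_mem _ hp))
    have hP𝔭 : P ≤ 𝔭 := h.min 𝔭 hpp hI𝔭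
    rcases hP𝔭.eq_or_lt with heq | hlt
    · intro x hx
      obtain ⟨s, hs, hsx⟩ := hred x hx
      refine (hQp.mem_or_mem (hQ.1.2 hsx)).resolve_left ?_
      intro h1
      apply hs
      rw [heq]
      exact h1
    · exfalso
      obtain ⟨e, -, he, -⟩ := exists_nat_dim Q
      obtain ⟨f, -, hf, -⟩ := exists_nat_dim 𝔭
      have h1 := dim_lt hlt h.dim.le
      rw [hf] at h1
      have h1' : f + 1 ≤ D := by exact_mod_cast h1
      rw [he] at hdim
      have hdim' : D + δ ≤ e := by exact_mod_cast hdim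
      by_cases hall : ∀ i, a i ∈ 𝔭
      · have h2 := dim_le_of_mem hG.hom hG.ne Q hQ.1.2 hall
        have h3 := ha0 𝔭 hpp hI𝔭 hall
        rw [← h𝔭] at h2
        rw [hf] at h3
        rw [hf, he] at h2
        have h2' : e ≤ f + n := by exact_mod_cast h2
        have h3' : f + (n + 1) ≤ D + δ := by exact_mod_cast h3
        omega
      · push Not at hall
        obtain ⟨i, hi⟩ := hall
        have h2 := dim_le_of_ne hG.H1 haG Q hQ.1.2 i hi
        rw [← h𝔭] at h2
        rw [hf, he] at h2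
        have h2' : e ≤ f + δ := by exact_mod_cast h2
        omega
  have hmin' : ∀ Q : Ideal (MvPolynomial (σ ⊕ Fin (n + 1)) k), Q.IsPrime → stepI I G a ≤ Q → Q₀ ≤ Q := by
    intro Q hQ hIQ
    obtain ⟨Q', hQ', hQ'Q⟩ := Ideal.exists_minimalPrimes_le hIQ
    exact (hmin Q' hQ').trans hQ'Q
  refine ⟨Q₀, ⟨hQ₀p, hle, hmin', ?_, ?_, hGen⟩, hcomap⟩
  · intro x hx
    obtain ⟨s, hs, hsx⟩ := hred x hx
    refine ⟨rename Sum.inl s, ?_, hsx⟩
    intro h1
    apply hs
    rw [← hcomap]
    exact h1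
  · have hQmin : Q₀ ∈ (stepI I G a).minimalPrimes := ⟨⟨hQ₀p, hle⟩, fun Q hQ _ => hmin' Q hQ.1 hQ.2⟩
    have h1 := hGen.le_dim hQmin
    have h2 := dim_le_of_ne hG.H1 haG Q₀ hle i₀ (by rw [hcomap]; exact hi₀)
    rw [hcomap, h.dim] at h2
    refine le_antisymm ?_ h1
    exact_mod_cast h2

end Thm

end K791
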